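import Cfsg.Agent.Lib.Helper11.ZJ
import Cfsg.Agent.Lib.Helper11.ZJFam
import Mathlib

/-! Glauberman's ZJ-theorem for "Thompson families" that are only conjugation-invariant
(for instance families defined relative to a strongly closed subgroup); the conclusion is
normality of the intersection of the family at a Sylow subgroup. Adapted from `Helper11.ZJ`. -/

open Cfsg

set_option autoImplicit false
set_option linter.unusedSectionVars false
set_option linter.unusedVariables false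

namespace Cfsg.Agent.Lib.Helper97.ZJConj

open scoped commutatorElement
open Cfsg.Agent.Lib.Helper76.PSolv Cfsg.Agent.Lib.Helper76.SylowTools Cfsg.Agent.Lib.Helper11.ZJ

variable {G : Type*} [Group G]

/-- A conjugation-invariant "Thompson family", with the replacement property at one subgroup `S`. -/
structure IsFamC (p : ℕ) (𝒜 : Subgroup G → Set (Subgroup G)) (S : Subgroup G) : Prop where
  le : ∀ P A, A ∈ 𝒜 P → A ≤ P
  comm : ∀ P A, A ∈ 𝒜 P → IsMulCommutative A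
  nonempty : ∀ P, (𝒜 P).Nonempty
  restrict : ∀ T P A, T ≤ P → A ∈ 𝒜 P → A ≤ T → A ∈ 𝒜 T
  subset : ∀ T P A, T ≤ P → A ∈ 𝒜 P → A ≤ T → 𝒜 T ⊆ 𝒜 P
  map : ∀ (g : G) P A, A ∈ 𝒜 P →
    A.map (MulAut.conj g).toMonoidHom ∈ 𝒜 (P.map (MulAut.conj g).toMonoidHom)
  replace : ∀ B : Subgroup G, B ≤ S → S ≤ Subgroup.normalizer (B : Set G) →
    (∃ U ∈ 𝒜 S, ⁅B, B⁆ ≤ U ∧ ¬ B ≤ U) →
    ∃ A ∈ 𝒜 S, ⁅B, B⁆ ≤ A ∧ ¬ B ≤ A ∧ B ≤ Subgroup.normalizer (A : Set G)

theorem map_conj_inv_map (g : G) (P : Subgroup G) :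
    (P.map (MulAut.conj g).toMonoidHom).map (MulAut.conj g⁻¹).toMonoidHom = P := by
  ext x
  rw [mem_map_conj, mem_map_conj]
  have : g⁻¹ * (g⁻¹⁻¹ * x * g⁻¹) * g = x := by group
  rw [this]

variable {p : ℕ} {𝒜 : Subgroup G → Set (Subgroup G)} {S₀ : Subgroup G}

theorem map_sInf_le (h𝒜 : IsFamC p 𝒜 S₀) (g : G) (P : Subgroup G) :
    (sInf (𝒜 P)).map (MulAut.conj g).toMonoidHom ≤
      sInf (𝒜 (P.map (MulAut.conj g).toMonoidHom)) := by
  rintro _ ⟨z, hz, rfl⟩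
  have hz' : z ∈ sInf (𝒜 P) := hz
  rw [Subgroup.mem_sInf] at hz' ⊢
  intro A' hA'
  have h := h𝒜.map g⁻¹ _ A' hA'
  rw [map_conj_inv_map] at h
  have h2 := hz' _ h
  rw [mem_map_conj] at h2
  simpa [MulAut.conj_apply] using h2

theorem normalizer_le [Finite G] (h𝒜 : IsFamC p 𝒜 S₀) (P : Subgroup G) :
    Subgroup.normalizer (P : Set G) ≤ Subgroup.normalizer ((sInf (𝒜 P) : Subgroup G) : Set G) := by
  intro g hg
  apply Cfsg.Agent.S0650.mem_normalizer_of_conj_mem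
  intro x hx
  have h := map_sInf_le h𝒜 g P
  rw [map_conj_eq_of_mem_normalizer P g hg] at h
  exact h ⟨x, hx, rfl⟩

theorem sInf_le_self (h𝒜 : IsFamC p 𝒜 S₀) (P : Subgroup G) : sInf (𝒜 P) ≤ P := by
  obtain ⟨A, hA⟩ := h𝒜.nonempty P
  exact (sInf_le hA).trans (h𝒜.le P A hA)

theorem commutator_sInf (h𝒜 : IsFamC p 𝒜 S₀) (P : Subgroup G) :
    ⁅sInf (𝒜 P), sInf (𝒜 P)⁆ = ⊥ := by
  obtain ⟨A, hA⟩ := h𝒜.nonempty P
  have h1 : ⁅A, A⁆ = ⊥ := Subgroup.commutator_self_eq_bot_iff.mpr (h𝒜.comm P A hA)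
  rw [eq_bot_iff, ← h1]
  exact Subgroup.commutator_mono (sInf_le hA) (sInf_le hA)

section main

variable [Finite G] [Fact p.Prime]

theorem sInf_le_pCore (S : Sylow p G) (h𝒜 : IsFamC p 𝒜 (S : Subgroup G))
    (hc : Subgroup.centralizer (Cfsg.pCore p G : Set G) ≤ Cfsg.pCore p G)
    (hst : ∀ (P : Subgroup G) [P.Normal], IsPGroup p P → Cfsg.IsPStableOn p P) :
    sInf (𝒜 (S : Subgroup G)) ≤ Cfsg.pCore p G := by
  intro z hz
  set Z := sInf (𝒜 (S : Subgroup G)) with hZ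
  set Q := Cfsg.pCore p G with hQ
  have hQn : Q.Normal := pCore_normal' p G
  have hQS : Q ≤ S := pCore_le_sylow S
  have hQp : IsPGroup p Q := pCore_isPGroup p
  have hZc : ⁅Z, Z⁆ = ⊥ := commutator_sInf h𝒜 _
  have hSZ : (S : Subgroup G) ≤ Subgroup.normalizer (Z : Set G) :=
    Subgroup.le_normalizer.trans (normalizer_le h𝒜 S)
  have h1 : ⁅Q, Subgroup.zpowers z⁆ ≤ Z := by
    rw [Subgroup.commutator_le]
    intro q hq y hy
    have hyZ : y ∈ Z := (Subgroup.zpowers_le.mpr hz) hy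
    have hqn : q ∈ Subgroup.normalizer (Z : Set G) := hSZ (hQS hq)
    have := (Subgroup.mem_normalizer_iff.mp hqn y).mp hyZ
    exact Z.mul_mem this (Z.inv_mem hyZ)
  have h2 : ⁅⁅Q, Subgroup.zpowers z⁆, Subgroup.zpowers z⁆ = ⊥ := by
    rw [eq_bot_iff, ← hZc]
    exact Subgroup.commutator_mono h1 (Subgroup.zpowers_le.mpr hz)
  have h3 := hst Q hQp z h2
  set C := Subgroup.centralizer (Q : Set G) with hC
  set L := (Cfsg.pCore p (G ⧸ C)).comap (QuotientGroup.mk' C) with hL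
  have hLn : L.Normal := (pCore_normal' p _).comap _
  have hLp : IsPGroup p L := by
    apply IsPGroup.comap_of_ker_isPGroup (pCore_isPGroup p)
    rw [QuotientGroup.ker_mk']
    exact hQp.to_le hc
  exact le_pCore hLn hLp h3

/-- Key step: if `B = ⟨(Z ∩ B)^G⟩` and `B` normalizes a member `A₀` of the family, then `B ≤ A₀`. -/
theorem le_of_normalizes (S : Sylow p G) (h𝒜 : IsFamC p 𝒜 (S : Subgroup G))
    (hst : ∀ (P : Subgroup G) [P.Normal], IsPGroup p P → Cfsg.IsPStableOn p P)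
    (B : Subgroup G) [B.Normal] (hBp : IsPGroup p B)
    (hB : Subgroup.normalClosure (((sInf (𝒜 (S : Subgroup G)) ⊓ B : Subgroup G)) : Set G) = B)
    (A₀ : Subgroup G) (hA₀ : A₀ ∈ 𝒜 (S : Subgroup G))
    (hBN : B ≤ Subgroup.normalizer (A₀ : Set G)) : B ≤ A₀ := by
  have hA₀S : A₀ ≤ S := h𝒜.le _ _ hA₀
  have hA₀c : ⁅A₀, A₀⁆ = ⊥ := Subgroup.commutator_self_eq_bot_iff.mpr (h𝒜.comm _ _ hA₀)
  set C := Subgroup.centralizer (B : Set G) with hC
  set L := (Cfsg.pCore p (G ⧸ C)).comap (QuotientGroup.mk' C) with hL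
  have hLn : L.Normal := (pCore_normal' p _).comap _
  have hCL : C ≤ L := by
    intro c hc
    show (QuotientGroup.mk' C c) ∈ Cfsg.pCore p (G ⧸ C)
    have : (QuotientGroup.mk' C c) = 1 := (QuotientGroup.eq_one_iff c).mpr hc
    rw [this]; exact Subgroup.one_mem _
  have hA₀L : A₀ ≤ L := by
    intro a ha
    have h1 : ⁅B, Subgroup.zpowers a⁆ ≤ A₀ := by
      rw [Subgroup.commutator_le]
      intro b hb y hy
      have hyA : y ∈ A₀ := (Subgroup.zpowers_le.mpr ha) hy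
      have := (Subgroup.mem_normalizer_iff.mp (hBN hb) y).mp hyA
      exact A₀.mul_mem this (A₀.inv_mem hyA)
    have h2 : ⁅⁅B, Subgroup.zpowers a⁆, Subgroup.zpowers a⁆ = ⊥ := by
      rw [eq_bot_iff, ← hA₀c]
      exact Subgroup.commutator_mono h1 (Subgroup.zpowers_le.mpr ha)
    exact hst B hBp a h2
  set T := (S : Subgroup G) ⊓ L with hT
  have hA₀T : A₀ ≤ T := le_inf hA₀S hA₀L
  have hTS : T ≤ S := inf_le_left
  have hA₀T' : A₀ ∈ 𝒜 T := h𝒜.restrict T S A₀ hTS hA₀ hA₀T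
  have hsub : 𝒜 T ⊆ 𝒜 (S : Subgroup G) := h𝒜.subset T S A₀ hTS hA₀ hA₀T
  set X := sInf (𝒜 T) with hX
  have hZX : sInf (𝒜 (S : Subgroup G)) ≤ X := sInf_le_sInf hsub
  have hfrat : Subgroup.normalizer (T : Set G) ⊔ C = ⊤ :=
    frattini_core S C L hCL (fun x hx => mem_preimage_pow C x hx)
  have hXBn : (X ⊓ B).Normal := by
    rw [← Subgroup.normalizer_eq_top_iff, eq_top_iff, ← hfrat]
    apply sup_le
    · intro g hg
      have hgX := normalizer_le h𝒜 T hg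
      apply Cfsg.Agent.S0650.mem_normalizer_of_conj_mem
      intro x hx
      exact ⟨(Subgroup.mem_normalizer_iff.mp hgX x).mp hx.1,
        Subgroup.Normal.conj_mem inferInstance x hx.2 g⟩
    · intro c hc
      apply Cfsg.Agent.S0650.mem_normalizer_of_conj_mem
      intro x hx
      have h1 : x * c = c * x := Subgroup.mem_centralizer_iff.mp hc x hx.2
      have : c * x * c⁻¹ = x := by
        rw [← h1]; simp
      rw [this]; exact hx
  have hBX : B ≤ X ⊓ B := by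
    conv_lhs => rw [← hB]
    exact Subgroup.normalClosure_le_normal (inf_le_inf_right B hZX)
  exact (hBX.trans inf_le_left).trans (sInf_le hA₀T')

theorem core_step (S : Sylow p G) (h𝒜 : IsFamC p 𝒜 (S : Subgroup G))
    (hst : ∀ (P : Subgroup G) [P.Normal], IsPGroup p P → Cfsg.IsPStableOn p P)
    (B : Subgroup G) [hBn : B.Normal] (hBp : IsPGroup p B)
    (ih : ∀ B' : Subgroup G, B'.Normal → B' < B → (sInf (𝒜 (S : Subgroup G)) ⊓ B').Normal) :
    (sInf (𝒜 (S : Subgroup G)) ⊓ B).Normal := by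
  classical
  set Z := sInf (𝒜 (S : Subgroup G)) with hZ
  have hBS : B ≤ S := hBp.le_sylow_of_normal S
  have hSZ : (S : Subgroup G) ≤ Subgroup.normalizer (Z : Set G) :=
    Subgroup.le_normalizer.trans (normalizer_le h𝒜 S)
  set B₁ := Subgroup.normalClosure ((Z ⊓ B : Subgroup G) : Set G) with hB₁
  have hB₁B : B₁ ≤ B := Subgroup.normalClosure_le_normal (inf_le_right)
  have hle : Z ⊓ B ≤ B₁ := Subgroup.le_normalClosure
  by_cases hne : B₁ = B
  swap
  · have hlt : B₁ < B := lt_of_le_of_ne hB₁B hne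
    have := ih B₁ Subgroup.normalClosure_normal hlt
    have heq : Z ⊓ B = Z ⊓ B₁ := le_antisymm (le_inf inf_le_left hle) (inf_le_inf_left Z hB₁B)
    rw [heq]; exact this
  suffices hBZ : B ≤ Z by
    rw [inf_eq_right.mpr hBZ]; exact hBn
  by_cases hbot : B = ⊥
  · rw [hbot]; exact bot_le
  have hB'lt : ⁅B, B⁆ < B := commutator_lt_of_isPGroup B hBp hbot
  have hKn : (Z ⊓ ⁅B, B⁆).Normal := ih _ (Subgroup.commutator_normal B B) hB'lt
  have hB'Z : ⁅B, B⁆ ≤ Z := by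
    have h := commutator_normalClosure_le ((Z ⊓ B : Subgroup G) : Set G) B (Z ⊓ ⁅B, B⁆) ?_
    · rw [← hB₁, hne] at h
      exact h.trans inf_le_left
    · intro x hx y hy
      refine ⟨?_, Subgroup.commutator_mem_commutator hx.2 hy⟩
      have hyn := hSZ (hBS hy)
      have h1 : y * x⁻¹ * y⁻¹ ∈ Z := (Subgroup.mem_normalizer_iff.mp hyn x⁻¹).mp (Z.inv_mem hx.1)
      have : ⁅x, y⁆ = x * (y * x⁻¹ * y⁻¹) := by simp [commutatorElement_def, mul_assoc]
      rw [this]; exact Z.mul_mem hx.1 h1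
  by_contra hBnZ
  have hU : ∃ U ∈ 𝒜 (S : Subgroup G), ⁅B, B⁆ ≤ U ∧ ¬ B ≤ U := by
    by_contra hcon
    push Not at hcon
    apply hBnZ
    rw [hZ]
    apply le_sInf
    intro U hU
    exact hcon U hU (hB'Z.trans (sInf_le hU))
  obtain ⟨A₀, hA₀, -, hBA₀, hBN⟩ := h𝒜.replace B hBS
    (by rw [Subgroup.normalizer_eq_top]; exact le_top) hU
  exact hBA₀ (le_of_normalizes S h𝒜 hst B hBp hne A₀ hA₀ hBN)

theorem inf_normal (S : Sylow p G) (h𝒜 : IsFamC p 𝒜 (S : Subgroup G))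
    (hst : ∀ (P : Subgroup G) [P.Normal], IsPGroup p P → Cfsg.IsPStableOn p P) :
    ∀ (n : ℕ) (B : Subgroup G), B.Normal → IsPGroup p B → Nat.card B = n →
      (sInf (𝒜 (S : Subgroup G)) ⊓ B).Normal := by
  intro n
  induction n using Nat.strong_induction_on with
  | _ n ih =>
    intro B hBn hBp hcard
    have := hBn
    apply core_step S h𝒜 hst B hBp
    intro B' hB'n hlt
    have hlt' : Nat.card B' < n := by
      rw [← hcard]
      by_contra hge
      push Not at hge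
      exact (ne_of_lt hlt) (Subgroup.eq_of_le_of_card_ge (le_of_lt hlt) hge)
    exact ih _ hlt' B' hB'n (hBp.to_le (le_of_lt hlt)) rfl

/-- Abstract ZJ-theorem for conjugation-invariant families: the intersection of the family at a
Sylow `p`-subgroup is normal. -/
theorem zj_normal (S : Sylow p G) (h𝒜 : IsFamC p 𝒜 (S : Subgroup G))
    (hc : Subgroup.centralizer (Cfsg.pCore p G : Set G) ≤ Cfsg.pCore p G)
    (hst : ∀ (P : Subgroup G) [P.Normal], IsPGroup p P → Cfsg.IsPStableOn p P) :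
    (sInf (𝒜 (S : Subgroup G))).Normal := by
  have hZQ : sInf (𝒜 (S : Subgroup G)) ≤ Cfsg.pCore p G := sInf_le_pCore S h𝒜 hc hst
  have := inf_normal S h𝒜 hst _ (Cfsg.pCore p G) (pCore_normal' p G) (pCore_isPGroup p) rfl
  rwa [inf_eq_left.mpr hZQ] at this

end main

/-! ### Families of largest members of a class of subgroups -/

/-- The members of largest order among the subgroups of `T` satisfying `Q`. -/
def famQ (Q : Subgroup G → Prop) (T : Subgroup G) : Set (Subgroup G) :=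
  {A | A ≤ T ∧ Q A ∧ ∀ Y : Subgroup G, Y ≤ T → Q Y → Nat.card Y ≤ Nat.card A}

theorem isFamC_famQ [Finite G] (p : ℕ) (Q : Subgroup G → Prop) (hbot : Q ⊥)
    (hcomm : ∀ A, Q A → IsMulCommutative A)
    (hconj : ∀ (g : G) A, Q A → Q (A.map (MulAut.conj g).toMonoidHom)) (S : Subgroup G)
    (hrep : ∀ B : Subgroup G, B ≤ S → S ≤ Subgroup.normalizer (B : Set G) →
      (∃ U ∈ famQ Q S, ⁅B, B⁆ ≤ U ∧ ¬ B ≤ U) →
      ∃ A ∈ famQ Q S, ⁅B, B⁆ ≤ A ∧ ¬ B ≤ A ∧ B ≤ Subgroup.normalizer (A : Set G)) :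
    IsFamC p (famQ Q) S where
  le P A h := h.1
  comm P A h := hcomm A h.2.1
  nonempty P := by
    have : Nonempty {Y : Subgroup G // Y ≤ P ∧ Q Y} := ⟨⟨⊥, bot_le, hbot⟩⟩
    obtain ⟨A, hA⟩ := Finite.exists_max
      (fun A : {Y : Subgroup G // Y ≤ P ∧ Q Y} => Nat.card (A : Subgroup G))
    exact ⟨A.1, A.2.1, A.2.2, fun Y hY hYQ => hA ⟨Y, hY, hYQ⟩⟩
  restrict T P A hTP hA hAT := ⟨hAT, hA.2.1, fun Y hY hYQ => hA.2.2 Y (hY.trans hTP) hYQ⟩
  subset T P A hTP hA hAT := by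
    intro A' hA'
    exact ⟨hA'.1.trans hTP, hA'.2.1,
      fun Y hY hYQ => (hA.2.2 Y hY hYQ).trans (hA'.2.2 A hAT hA.2.1)⟩
  map g P A hA := by
    refine ⟨Subgroup.map_mono hA.1, hconj g A hA.2.1, ?_⟩
    intro Y hY hYQ
    have h1 : Y.map (MulAut.conj g⁻¹).toMonoidHom ≤ P := by
      have := Subgroup.map_mono (f := (MulAut.conj g⁻¹).toMonoidHom) hY
      rwa [map_conj_inv_map] at this
    have h2 := hA.2.2 _ h1 (hconj g⁻¹ Y hYQ)
    rw [Subgroup.card_map_of_injective (MulAut.conj g⁻¹).injective] at h2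
    rw [Subgroup.card_map_of_injective (MulAut.conj g).injective]
    exact h2
  replace := hrep

theorem isMulCommutative_of_map_subtype (P : Subgroup G) (X' : Subgroup ↥P)
    (h : IsMulCommutative (X'.map P.subtype)) : IsMulCommutative X' := by
  refine ⟨⟨fun x y => ?_⟩⟩
  have hx : P.subtype (x : ↥P) ∈ X'.map P.subtype := ⟨x, x.2, rfl⟩
  have hy : P.subtype (y : ↥P) ∈ X'.map P.subtype := ⟨y, y.2, rfl⟩
  have hc : P.subtype (x : ↥P) * P.subtype (y : ↥P) = P.subtype (y : ↥P) * P.subtype (x : ↥P) :=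
    setLike_mul_comm hx hy
  apply Subtype.ext
  apply Subtype.ext
  exact hc

open Cfsg.Agent.Lib.Helper11.Replace in
/-- Relative replacement: for `D ⊴ P` (`P` a `p`-subgroup of `G`, `p` odd) and a class `Q` of
abelian subgroups stable under the star operation, the family of largest `Q`-subgroups of `D` has
the replacement property in `P`. -/
theorem replace_rel [Finite G] {p : ℕ} [Fact p.Prime] (hp : p ≠ 2) (P D : Subgroup G)
    (hP : IsPGroup p P) (hDP : D ≤ P) (hDn : P ≤ Subgroup.normalizer (D : Set G))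
    (Q : Subgroup G → Prop) (hQc : ∀ X, Q X → IsMulCommutative X)
    (hQstar : ∀ (X' B' : Subgroup ↥P) [B'.Normal] (b : ↥P), Q (X'.map P.subtype) →
      ⁅B', B'⁆ ≤ X' → b ∈ B' →
      b ∈ Subgroup.normalizer ((Subgroup.normalizer (X' : Set ↥P)) : Set ↥P) →
      b ∉ Subgroup.normalizer (X' : Set ↥P) → Q ((star X' b).map P.subtype))
    (B : Subgroup G) (hBP : B ≤ P) (hPB : P ≤ Subgroup.normalizer (B : Set G))
    (hU : ∃ U ∈ famQ Q D, ⁅B, B⁆ ≤ U ∧ ¬ B ≤ U) :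
    ∃ A ∈ famQ Q D, ⁅B, B⁆ ≤ A ∧ ¬ B ≤ A ∧ B ≤ Subgroup.normalizer (A : Set G) := by
  set 𝒜₀ : Set (Subgroup ↥P) := {X' | X'.map P.subtype ∈ famQ Q D} with h𝒜₀
  have hD'n : (D.subgroupOf P).Normal := Subgroup.normal_subgroupOf_of_le_normalizer hDn
  have hinj : Function.Injective P.subtype := P.subtype_injective
  have hrep : ∀ (B' : Subgroup ↥P) [B'.Normal], (∃ U ∈ 𝒜₀, ⁅B', B'⁆ ≤ U ∧ ¬ B' ≤ U) →
      ∃ A ∈ 𝒜₀, ⁅B', B'⁆ ≤ A ∧ ¬ B' ≤ A ∧ B' ≤ Subgroup.normalizer (A : Set ↥P) := by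
    intro B' _ hU'
    refine exists_normalized hP 𝒜₀ B' (fun h => absurd h hp) ?_ ?_ hU'
    · intro X' hX'
      exact isMulCommutative_of_map_subtype P X' (hQc _ hX'.2.1)
    · intro X' hX' hBX b hb hbN hbA
      have hX'c : IsMulCommutative X' := isMulCommutative_of_map_subtype P X' (hQc _ hX'.2.1)
      have hnot : ¬ B' ≤ Subgroup.normalizer (X' : Set ↥P) := fun h => hbA (h hb)
      have key := Cfsg.Agent.S0650.result hP B' (fun h => absurd h hp) X' hX'c hBX hnot b hb hbN hbA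
      obtain ⟨k1, -⟩ := key
      have k1' : Nat.card (star X' b) = Nat.card X' := k1
      have hX'D : X' ≤ D.subgroupOf P := by
        intro x hx
        exact Subgroup.mem_subgroupOf.mpr (hX'.1 ⟨x, hx, rfl⟩)
      have hsD : star X' b ≤ D.subgroupOf P := star_le_of_normal (D.subgroupOf P) X' b hX'D
      refine ⟨?_, hQstar X' B' b hX'.2.1 hBX hb hbN hbA, ?_⟩
      · rintro _ ⟨y, hy, rfl⟩
        exact Subgroup.mem_subgroupOf.mp (hsD hy)
      · intro Y hY hYQ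
        rw [Subgroup.card_map_of_injective hinj, k1', ← Subgroup.card_map_of_injective hinj]
        exact hX'.2.2 Y hY hYQ
  have hU' : ∃ U ∈ Set.image (fun A : Subgroup ↥P => A.map P.subtype) 𝒜₀, ⁅B, B⁆ ≤ U ∧ ¬ B ≤ U := by
    obtain ⟨U, hU1, hU2, hU3⟩ := hU
    have hUP : U ≤ P := hU1.1.trans hDP
    have hmap : (U.subgroupOf P).map P.subtype = U := Subgroup.map_subgroupOf_eq_of_le hUP
    refine ⟨U, ⟨U.subgroupOf P, ?_, hmap⟩, hU2, hU3⟩
    show (U.subgroupOf P).map P.subtype ∈ famQ Q D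
    rw [hmap]; exact hU1
  obtain ⟨_, ⟨A', hA', rfl⟩, h1, h2, h3⟩ :=
    Cfsg.Agent.Lib.Helper11.ZJFam.replace_transfer P B hBP hPB 𝒜₀ hrep hU'
  exact ⟨_, hA', h1, h2, h3⟩

end Cfsg.Agent.Lib.Helper97.ZJConj
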