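import Mathlib
import Cfsg.Agent.Lib.Helper42.ReeSpStmt

/-!
# S1159, piece ODDA

An element whose order is divisible by an odd prime `p` dividing `q + 1` is conjugate into the
centralizer of `A`: the Sylow `p`-subgroup of the cyclic group `A` (of order `(q + 1) / 4`) is a
Sylow `p`-subgroup of the group, so a power of the element of order `p` is conjugate into `A`.
-/

set_option autoImplicit false

namespace Cfsg.Agent.Lib.Helper97.ReeSpODDA

open Cfsg.Agent.Lib.Helper42.ReeSpStmt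

universe u v

/-- `q = 3 ^ (2 m + 1)` is `3` modulo `4` -/
theorem qq_mod_four (m : ℕ) : qq m % 4 = 3 := by
  show 3 ^ (2 * m + 1) % 4 = 3
  rw [pow_succ, pow_mul, Nat.mul_mod, Nat.pow_mod]
  norm_num

/-- an odd prime dividing `q + 1` is prime to `q ^ 3 * (q - 1) * (q ^ 2 - q + 1)` -/
theorem coprime_aux (m p : ℕ) (hp : p.Prime) (hp2 : p ≠ 2) (hpq : p ∣ qq m + 1) :
    Nat.Coprime p (qq m ^ 3) ∧ Nat.Coprime p (qq m - 1) ∧ Nat.Coprime p (qq m ^ 2 - qq m + 1) := by
  have hq4 := qq_mod_four m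
  have hqpos : 2 ≤ qq m := by omega
  have hnq : ¬ p ∣ qq m := by
    intro h
    have h1 : p ∣ 1 := (Nat.dvd_add_right h).1 hpq
    exact hp.one_lt.ne' (Nat.dvd_one.1 h1)
  have hp3 : p ≠ 3 := by
    rintro rfl
    apply hnq
    exact dvd_pow_self 3 (by omega)
  refine ⟨?_, ?_, ?_⟩
  · exact Nat.Coprime.pow_right 3 ((Nat.Prime.coprime_iff_not_dvd hp).2 hnq)
  · rw [Nat.Prime.coprime_iff_not_dvd hp]
    intro h
    have h2 : p ∣ 2 := by
      have h3 : qq m + 1 = (qq m - 1) + 2 := by omega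
      rw [h3] at hpq
      exact (Nat.dvd_add_right h).1 hpq
    exact hp2 ((Nat.prime_dvd_prime_iff_eq hp Nat.prime_two).1 h2)
  · rw [Nat.Prime.coprime_iff_not_dvd hp]
    intro h
    have h3 : p ∣ 3 := by
      have h4 : qq m ^ 2 - qq m + 1 = (qq m + 1) * (qq m - 2) + 3 := by
        obtain ⟨t, ht⟩ : ∃ t, qq m = t + 2 := ⟨qq m - 2, by omega⟩
        rw [ht]
        have h5 : (t + 2) ^ 2 - (t + 2) + 1 = t * t + 3 * t + 3 := by
          have : (t + 2) ^ 2 = t * t + 4 * t + 4 := by ring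
          rw [this]
          omega
        rw [h5, Nat.add_sub_cancel]
        ring
      rw [h4] at h
      exact (Nat.dvd_add_right (Dvd.dvd.mul_right hpq _)).1 h
    exact hp3 ((Nat.prime_dvd_prime_iff_eq hp Nat.prime_three).1 h3)

theorem main : OddA.{u, v} := by
  intro G _ _ U H A K _ _ m hAx g p hp hp2 hpg hpq
  have hpF : Fact p.Prime := ⟨hp⟩
  have hq4 := qq_mod_four m
  obtain ⟨hc1, hc2, hc3⟩ := coprime_aux m p hp hp2 hpq
  -- the `p`-part of the order of the group divides the order of `A`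
  obtain ⟨k, hk⟩ : ∃ k : ℕ, k = (Nat.card G).factorization p := ⟨_, rfl⟩
  have hpk : p ^ k ∣ Nat.card G := by
    rw [hk]
    exact Nat.ordProj_dvd _ _
  have hfac : qq m ^ 3 + 1 = (qq m + 1) * (qq m ^ 2 - qq m + 1) := by
    obtain ⟨t, ht⟩ : ∃ t, qq m = t + 2 := ⟨qq m - 2, by omega⟩
    rw [ht]
    have h5 : (t + 2) ^ 2 - (t + 2) + 1 = t * t + 3 * t + 3 := by
      have : (t + 2) ^ 2 = t * t + 4 * t + 4 := by ring
      rw [this]
      omega
    rw [h5]
    ring
  have hpkq : p ^ k ∣ qq m + 1 := by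
    rw [hAx.card, hfac] at hpk
    have h1 : p ^ k ∣ (qq m + 1) * (qq m ^ 2 - qq m + 1) :=
      Nat.Coprime.dvd_of_dvd_mul_left
        (Nat.Coprime.mul_right (Nat.Coprime.pow_left k hc1) (Nat.Coprime.pow_left k hc2)) hpk
    exact Nat.Coprime.dvd_of_dvd_mul_right (Nat.Coprime.pow_left k hc3) h1
  have hA4 : qq m + 1 = Nat.card A * 4 := by
    rw [hAx.cardA]
    omega
  have hpkA : p ^ k ∣ Nat.card A := by
    rw [hA4] at hpkq
    have hcop : Nat.Coprime p 4 := by
      have h2 : Nat.Coprime p 2 := by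
        rw [Nat.Prime.coprime_iff_not_dvd hp]
        intro h
        exact hp2 ((Nat.prime_dvd_prime_iff_eq hp Nat.prime_two).1 h)
      exact Nat.Coprime.pow_right 2 h2
    exact Nat.Coprime.dvd_of_dvd_mul_right (Nat.Coprime.pow_left k hcop) hpkq
  -- an element of `A` of order `p ^ k`
  have hcyc : IsCyclic A := hAx.cycA
  obtain ⟨a₀, ha₀⟩ := IsCyclic.exists_ofOrder_eq_natCard (α := A)
  have hApos : 0 < Nat.card A := Nat.card_pos
  obtain ⟨a, ha⟩ : ∃ a : A, orderOf a = p ^ k := by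
    refine ⟨a₀ ^ (orderOf a₀ / p ^ k), ?_⟩
    refine orderOf_pow_orderOf_div ?_ ?_
    · rw [ha₀]
      exact hApos.ne'
    · rw [ha₀]
      exact hpkA
  have haG : orderOf (a : G) = p ^ k := by
    rw [Subgroup.orderOf_coe]
    exact ha
  have hcardz : Nat.card (Subgroup.zpowers (a : G)) = p ^ (Nat.card G).factorization p := by
    rw [Nat.card_zpowers, haG, hk]
  obtain ⟨P, hP⟩ : ∃ P : Sylow p G, (P : Subgroup G) = Subgroup.zpowers (a : G) :=
    ⟨Sylow.ofCard _ hcardz, rfl⟩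
  -- the power of `g` of order `p`
  have hg0 : 0 < orderOf g := orderOf_pos g
  obtain ⟨y, hy⟩ : ∃ y : G, y = g ^ (orderOf g / p) := ⟨_, rfl⟩
  have hyord : orderOf y = p := by
    rw [hy]
    exact orderOf_pow_orderOf_div hg0.ne' hpg
  have hyp : IsPGroup p (Subgroup.zpowers y) := by
    refine IsPGroup.of_card (n := 1) ?_
    rw [Nat.card_zpowers, hyord, pow_one]
  obtain ⟨Q, hQ⟩ := hyp.exists_le_sylow
  obtain ⟨x, hx⟩ := MulAction.exists_smul_eq G Q P
  have hyQ : y ∈ (Q : Subgroup G) := hQ (Subgroup.mem_zpowers y)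
  have hxy : x * y * x⁻¹ ∈ (P : Subgroup G) := by
    rw [← hx, Sylow.coe_subgroup_smul]
    exact Subgroup.smul_mem_pointwise_smul y (MulAut.conj x) (Q : Subgroup G) hyQ
  have hxyA : x * y * x⁻¹ ∈ A := by
    rw [hP] at hxy
    obtain ⟨j, hj⟩ := Subgroup.mem_zpowers_iff.1 hxy
    rw [← hj]
    exact A.zpow_mem a.2 j
  have hxy1 : x * y * x⁻¹ ≠ 1 := by
    intro h
    have h1 : y = 1 := by
      have : y = x⁻¹ * (x * y * x⁻¹) * x := by group
      rw [this, h]
      group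
    rw [h1, orderOf_one] at hyord
    exact hp.one_lt.ne hyord
  refine ⟨x, ?_⟩
  rw [← hAx.centA _ hxyA hxy1, Subgroup.mem_centralizer_iff]
  intro z hz
  rw [Set.mem_singleton_iff] at hz
  have hcomm : y * g = g * y := by
    rw [hy, ← pow_succ, ← pow_succ']
  rw [hz]
  calc x * y * x⁻¹ * (x * g * x⁻¹) = x * (y * g) * x⁻¹ := by group
    _ = x * (g * y) * x⁻¹ := by rw [hcomm]
    _ = x * g * x⁻¹ * (x * y * x⁻¹) := by group

end Cfsg.Agent.Lib.Helper97.ReeSpODDA
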