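import Mathlib
import Cfsg.Agent.Lib.Helper45.EOStmt

set_option autoImplicit false

namespace Cfsg.Agent.Lib.Helper97.EOPWR

open Polynomial
open Cfsg.Agent.Lib.Helper45.EOStmt

universe u

theorem main : Pwr.{u} := by
  intro K _ p _ _ f s e c hf he
  have h1 : (X ^ s - 1 : K[X]) ^ (p ^ c) = X ^ (s * p ^ c) - 1 := by
    rw [sub_pow_char_pow, one_pow, pow_mul]
  rw [← h1]
  exact (pow_dvd_pow f he).trans (pow_dvd_pow_of_dvd hf _)

end Cfsg.Agent.Lib.Helper97.EOPWR
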