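import Mathlib
import Cfsg.Agent.Lib.Helper45.EOStmt

set_option autoImplicit false

namespace Cfsg.Agent.Lib.Helper97.EOPWRNEG

open Polynomial
open Cfsg.Agent.Lib.Helper45.EOStmt

universe u

theorem main : PwrNeg.{u} := by
  intro K _ p _ _ e c he
  have h1 : (X + 1 : K[X]) ^ (p ^ c) = X ^ (p ^ c) + 1 := by
    rw [add_pow_char_pow, one_pow]
  rw [← h1]
  exact pow_dvd_pow _ he

end Cfsg.Agent.Lib.Helper97.EOPWRNEG
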