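import Mathlib
import Cfsg.Agent.Lib.Helper45.EOStmt

set_option autoImplicit false

namespace Cfsg.Agent.Lib.Helper97.EORCMIN

open Polynomial
open Cfsg.Agent.Lib.Helper45.EOStmt

universe u

/-- `aeval` of a conjugate-transpose. -/
theorem aeval_conj_transpose {K : Type u} [Field K] {ι : Type} [Fintype ι] [DecidableEq ι]
    (J g : Matrix ι ι K) (hJ : IsUnit J.det) (f : K[X]) :
    aeval (J⁻¹ * g.transpose * J) f = J⁻¹ * (aeval g f).transpose * J := by
  have hpow : ∀ i : ℕ, (J⁻¹ * g.transpose * J) ^ i = J⁻¹ * (g ^ i).transpose * J := by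
    intro i
    induction i with
    | zero => simp [Matrix.nonsing_inv_mul J hJ]
    | succ i ih =>
      rw [pow_succ, ih, pow_succ, Matrix.transpose_mul]
      calc J⁻¹ * (g ^ i).transpose * J * (J⁻¹ * g.transpose * J)
          = J⁻¹ * (g ^ i).transpose * (J * J⁻¹) * g.transpose * J := by
            simp only [Matrix.mul_assoc]
        _ = J⁻¹ * (g.transpose * (g ^ i).transpose) * J := by
            rw [Matrix.mul_nonsing_inv J hJ, Matrix.mul_one]
            have : g.transpose * (g ^ i).transpose = (g ^ i).transpose * g.transpose := by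
              rw [← Matrix.transpose_mul, ← Matrix.transpose_mul, ← pow_succ, ← pow_succ']
            rw [this]; simp only [Matrix.mul_assoc]
  rw [aeval_eq_sum_range, aeval_eq_sum_range]
  simp only [hpow, Matrix.transpose_sum, Matrix.transpose_smul, Finset.mul_sum, Finset.sum_mul,
    Matrix.mul_smul, Matrix.smul_mul]

/-- `aeval g f.reverse = g ^ natDegree f * aeval h f` when `h` is an inverse of `g`. -/
theorem aeval_reverse_of_inv {K : Type u} [Field K] {ι : Type} [Fintype ι] [DecidableEq ι]
    (g h : Matrix ι ι K) (hgh : g * h = 1) (f : K[X]) :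
    aeval g f.reverse = g ^ f.natDegree * aeval h f := by
  have hpow : ∀ j : ℕ, g ^ j * h ^ j = 1 := by
    intro j
    induction j with
    | zero => simp
    | succ j ih =>
      rw [pow_succ, pow_succ', mul_assoc, ← mul_assoc g, hgh, one_mul, ih]
  rw [aeval_eq_sum_range' (lt_of_le_of_lt (reverse_natDegree_le f) (Nat.lt_succ_self _)),
    aeval_eq_sum_range, Finset.mul_sum]
  rw [← Finset.sum_range_reflect]
  apply Finset.sum_congr rfl
  intro j hj
  have hj' : j ≤ f.natDegree := by
    have := Finset.mem_range.mp hj; omega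
  have e1 : f.natDegree + 1 - 1 - j = f.natDegree - j := by omega
  rw [e1, coeff_reverse, revAt_le (Nat.sub_le _ _), Nat.sub_sub_self hj']
  rw [mul_smul_comm]
  congr 1
  have : g ^ f.natDegree = g ^ (f.natDegree - j) * g ^ j := by
    rw [← pow_add, Nat.sub_add_cancel hj']
  rw [this, mul_assoc, hpow, mul_one]

theorem main : RcMin.{u} := by
  intro K _ ι _ _ J g hJ hg
  have hint : IsIntegral K g := Matrix.isIntegral g
  have hμ0 : minpoly K g ≠ 0 := minpoly.ne_zero hint
  -- g invertible
  have hdet : IsUnit g.det := by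
    have h1 := congrArg Matrix.det hg
    rw [Matrix.det_mul, Matrix.det_mul, Matrix.det_transpose] at h1
    have hJ0 : J.det ≠ 0 := hJ.ne_zero
    have h2 : g.det * g.det = 1 := by
      have : (g.det * g.det) * J.det = 1 * J.det := by linear_combination h1
      exact mul_right_cancel₀ hJ0 this
    exact IsUnit.of_mul_eq_one _ h2
  have hinv : g⁻¹ = J⁻¹ * g.transpose * J := by
    apply Matrix.inv_eq_left_inv
    rw [Matrix.mul_assoc, Matrix.mul_assoc, ← Matrix.mul_assoc g.transpose, hg,
      Matrix.nonsing_inv_mul J hJ]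
  have hgh : g * g⁻¹ = 1 := Matrix.mul_nonsing_inv g hdet
  have hhg : g⁻¹ * g = 1 := Matrix.nonsing_inv_mul g hdet
  have hrev : aeval g (minpoly K g).reverse = 0 := by
    rw [aeval_reverse_of_inv g g⁻¹ hgh, hinv, aeval_conj_transpose J g hJ, minpoly.aeval]
    simp
  have hdvd : minpoly K g ∣ (minpoly K g).reverse := minpoly.dvd K g hrev
  refine ⟨hμ0, ?_, ?_, ?_⟩
  · obtain ⟨r, hr⟩ := hdvd
    have hrev0 : (minpoly K g).reverse ≠ 0 := by
      rw [Ne, reverse_eq_zero]; exact hμ0
    have hr0 : r ≠ 0 := by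
      rintro rfl; rw [mul_zero] at hr; exact hrev0 hr
    have hdeg : r.natDegree = 0 := by
      have h1 := reverse_natDegree_le (minpoly K g)
      rw [hr, natDegree_mul hμ0 hr0] at h1
      omega
    obtain ⟨c, hc⟩ := natDegree_eq_zero.mp hdeg
    refine ⟨c, ?_, ?_⟩
    · rintro rfl; rw [C_0] at hc; exact hr0 hc.symm
    · rw [hr, ← hc, mul_comm]
  · intro h0
    obtain ⟨r, hr⟩ := X_dvd_iff.mpr h0
    have hr0 : r ≠ 0 := by
      rintro rfl; rw [mul_zero] at hr; exact hμ0 hr
    have h1 : aeval g r = 0 := by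
      have h2 : aeval g (minpoly K g) = 0 := minpoly.aeval K g
      rw [hr, map_mul, aeval_X] at h2
      calc aeval g r = g⁻¹ * (g * aeval g r) := by rw [← mul_assoc, hhg, one_mul]
        _ = 0 := by rw [h2, mul_zero]
    have h3 : minpoly K g ∣ r := minpoly.dvd K g h1
    have h4 := natDegree_le_of_dvd h3 hr0
    have h5 : (minpoly K g).natDegree = 1 + r.natDegree := by
      conv_lhs => rw [hr]
      rw [natDegree_mul X_ne_zero hr0, natDegree_X]
    omega
  · have h1 := natDegree_le_of_dvd (Matrix.minpoly_dvd_charpoly g) (Matrix.charpoly_monic g).ne_zero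
    rw [Matrix.charpoly_natDegree_eq_dim] at h1
    exact h1

end Cfsg.Agent.Lib.Helper97.EORCMIN
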