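import Mathlib
import Cfsg.Agent.Lib.Helper30.CTIStmt
import Cfsg.Agent.Lib.Helper5.SL2Card

set_option autoImplicit false

namespace Cfsg.Agent.Lib.Helper97.CTIPSLCARD

open Cfsg.Agent.Lib.Helper30.CTIStmt

theorem main : Cfsg.Agent.Lib.Helper30.CTIStmt.PSLCARD := by
  intro F _ _
  exact Cfsg.Agent.Lib.Helper5.SL2Card.card_PSL_two rfl

end Cfsg.Agent.Lib.Helper97.CTIPSLCARD
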