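import Mathlib
import Cfsg.Agent.Lib.Helper57.FTStmt

/-!
# S3999 / DIV (call by helper57; helper97)
-/

set_option autoImplicit false

universe u

namespace Cfsg.Agent.Lib.Helper97.FTDIV

open Cfsg.Agent.Lib.Helper57.FTStmt
open scoped Pointwise

theorem main : OrdDiv.{u} := by
  intro X _ _ C K hK x
  by_cases hx : x ∈ K
  · left
    exact Subgroup.orderOf_dvd_natCard K hx
  · right
    have hx' : x ∉ Cfsg.frobeniusKernel C := by
      rw [← hK]
      exact hx
    have h1 : ¬ (x = 1 ∨ ∀ g : X, x ∉ MulAut.conj g • C) := hx'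
    push Not at h1
    obtain ⟨-, g, hg⟩ := h1
    rw [Subgroup.mem_pointwise_smul_iff_inv_smul_mem] at hg
    have h2 : (MulAut.conj g)⁻¹ • x = g⁻¹ * x * g := by
      rw [← map_inv, MulAut.smul_def, MulAut.conj_apply, inv_inv]
    rw [h2] at hg
    have h3 : orderOf (g⁻¹ * x * g) = orderOf x := by
      have := MulEquiv.orderOf_eq (MulAut.conj g⁻¹) x
      rw [MulAut.conj_apply, inv_inv] at this
      exact this
    rw [← h3]
    exact Subgroup.orderOf_dvd_natCard C hg

end Cfsg.Agent.Lib.Helper97.FTDIV
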