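import Mathlib
import Cfsg.Agent.Lib.Helper57.FTStmt

/-!
# S3999 / FPF (call by helper57; helper97)
-/

set_option autoImplicit false

universe u

namespace Cfsg.Agent.Lib.Helper97.FTFPF

open Cfsg.Agent.Lib.Helper57.FTStmt

theorem main : Fpf.{u} := by
  intro Y _ _ N C hcop hord c hc hc1
  rw [eq_bot_iff]
  intro k hk
  obtain ⟨hkN, hkc⟩ := Subgroup.mem_inf.1 hk
  rw [Subgroup.mem_bot]
  by_contra hk1
  have hcomm : Commute c k := by
    have := (Subgroup.mem_centralizer_iff.1 hkc) c (Set.mem_singleton c)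
    exact this
  have hoc : orderOf c ∣ Nat.card ↥C := by
    have := Subgroup.orderOf_dvd_natCard C hc
    exact this
  have hok : orderOf k ∣ Nat.card ↥N := Subgroup.orderOf_dvd_natCard N hkN
  have hco : (orderOf c).Coprime (orderOf k) :=
    Nat.Coprime.coprime_dvd_left hoc (Nat.Coprime.coprime_dvd_right hok hcop.symm)
  have hmul := hcomm.orderOf_mul_eq_mul_orderOf_of_coprime hco
  have hc' : orderOf c ≠ 1 := fun h => hc1 (orderOf_eq_one_iff.mp h)
  have hk' : orderOf k ≠ 1 := fun h => hk1 (orderOf_eq_one_iff.mp h)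
  rcases hord (c * k) with h | h
  · rw [hmul] at h
    have h1 : orderOf c ∣ Nat.card ↥N := dvd_trans (dvd_mul_right _ _) h
    have h2 : orderOf c ∣ Nat.gcd (Nat.card ↥N) (Nat.card ↥C) := Nat.dvd_gcd h1 hoc
    rw [hcop] at h2
    exact hc' (Nat.dvd_one.mp h2)
  · rw [hmul] at h
    have h1 : orderOf k ∣ Nat.card ↥C := dvd_trans (dvd_mul_left _ _) h
    have h2 : orderOf k ∣ Nat.gcd (Nat.card ↥N) (Nat.card ↥C) := Nat.dvd_gcd hok h1
    rw [hcop] at h2
    exact hk' (Nat.dvd_one.mp h2)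

end Cfsg.Agent.Lib.Helper97.FTFPF
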