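import Mathlib
import Cfsg.Agent.Lib.Helper57.FTStmt

/-!
# S3999 / SOLVEXT (call by helper57; helper97)
-/

set_option autoImplicit false

universe u

namespace Cfsg.Agent.Lib.Helper97.FTSOLVEXT

open Cfsg.Agent.Lib.Helper57.FTStmt

theorem main : SolvExt.{u} := by
  intro X _ _ K C hK hKC hnil
  constructor
  · intro hX
    haveI := hX
    exact inferInstance
  · intro hC
    haveI := hC
    haveI := hK
    haveI : Group.IsNilpotent ↥K := hnil
    haveI : Group.IsSolvable ↥K := inferInstance
    have hsurj : Function.Surjective ((QuotientGroup.mk' K).comp C.subtype) := by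
      intro y
      obtain ⟨x, rfl⟩ := QuotientGroup.mk'_surjective K y
      obtain ⟨⟨⟨k, hk⟩, ⟨c, hc⟩⟩, hkc, -⟩ :=
        (Subgroup.isComplement_iff_existsUnique.1 hKC) x
      refine ⟨⟨c, hc⟩, ?_⟩
      have hkc' : k * c = x := hkc
      show QuotientGroup.mk' K c = QuotientGroup.mk' K x
      rw [← hkc']
      apply QuotientGroup.eq.2
      have : c⁻¹ * (k * c) = c⁻¹ * k * c⁻¹⁻¹ := by group
      rw [this]
      exact hK.conj_mem k hk c⁻¹
    haveI : Group.IsSolvable (X ⧸ K) := Group.isSolvable_of_surjective hsurj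
    refine Group.isSolvable_of_ker_le_range K.subtype (QuotientGroup.mk' K) ?_
    rw [QuotientGroup.ker_mk', Subgroup.range_subtype]

end Cfsg.Agent.Lib.Helper97.FTSOLVEXT
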