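import Cfsg.Agent.Lib.Helper76.SylowTools
import Cfsg.Agent.Lib.Helper34.Alperin
import Cfsg.Agent.S0650
import Mathlib

/-! Control of strong fusion: the Alperin–Goldschmidt style reduction to normalizers of fully
normalized subgroups, the "climbing" theorem for a subgroup functor `W` (local control by
`N(W(N_P(V)))` implies global control by `N(W(P))`), and lifting of control through a normal
`p'`-subgroup. Left conjugation `g u g⁻¹` throughout. -/

set_option autoImplicit false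
set_option linter.unusedSectionVars false
set_option linter.unusedVariables false

namespace Cfsg.Agent.Lib.Helper97.FusCtl

open Cfsg.Agent.Lib.Helper76.SylowTools Cfsg.Agent.Lib.Helper34.Alperin

variable {G : Type*} [Group G]

/-- `g` acts on `U` by conjugation as some element of `H` does. -/
def Act (H U : Subgroup G) (g : G) : Prop := ∃ h ∈ H, ∀ u ∈ U, g * u * g⁻¹ = h * u * h⁻¹

theorem Act.of_mem {H U : Subgroup G} {g : G} (hg : g ∈ H) : Act H U g :=
  ⟨g, hg, fun _ _ => rfl⟩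

theorem Act.mono {H U U' : Subgroup G} {g : G} (h : Act H U g) (hU : U' ≤ U) : Act H U' g := by
  obtain ⟨x, hx, hxu⟩ := h
  exact ⟨x, hx, fun u hu => hxu u (hU hu)⟩

theorem Act.mul {H U U₂ : Subgroup G} {g g' : G} (h : Act H U g) (h' : Act H U₂ g')
    (hU : ∀ u ∈ U, g * u * g⁻¹ ∈ U₂) : Act H U (g' * g) := by
  obtain ⟨x, hx, hxu⟩ := h
  obtain ⟨x', hx', hxu'⟩ := h'
  refine ⟨x' * x, H.mul_mem hx' hx, ?_⟩
  intro u hu
  have h1 := hxu u hu
  have h2 := hxu' _ (hU u hu)
  have e1 : g' * g * u * (g' * g)⁻¹ = g' * (g * u * g⁻¹) * g'⁻¹ := by group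
  have e2 : x' * x * u * (x' * x)⁻¹ = x' * (x * u * x⁻¹) * x'⁻¹ := by group
  rw [e1, e2, h2, h1]

theorem Act.inv {H U U₂ : Subgroup G} {g : G} (h : Act H U g)
    (hU : ∀ v ∈ U₂, g⁻¹ * v * g ∈ U) : Act H U₂ g⁻¹ := by
  obtain ⟨x, hx, hxu⟩ := h
  refine ⟨x⁻¹, H.inv_mem hx, ?_⟩
  intro v hv
  have h1 := hxu _ (hU v hv)
  have e1 : g * (g⁻¹ * v * g) * g⁻¹ = v := by group
  rw [e1] at h1
  have e2 : x⁻¹ * v * x⁻¹⁻¹ = x⁻¹ * v * x := by group
  have e3 : g⁻¹ * v * g⁻¹⁻¹ = g⁻¹ * v * g := by group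
  rw [e2, e3]
  conv_rhs => rw [h1]
  group

theorem Act.congr {H U : Subgroup G} {g g' : G} (h : Act H U g)
    (hg : ∀ u ∈ U, g' * u * g'⁻¹ = g * u * g⁻¹) : Act H U g' := by
  obtain ⟨x, hx, hxu⟩ := h
  exact ⟨x, hx, fun u hu => (hg u hu).trans (hxu u hu)⟩

/-- the left conjugate `g U g⁻¹` -/
abbrev lc (g : G) (U : Subgroup G) : Subgroup G := U.map (MulAut.conj g).toMonoidHom

theorem mem_lc {g x : G} {U : Subgroup G} : x ∈ lc g U ↔ g⁻¹ * x * g ∈ U := mem_map_conj

theorem conj_mem_lc {g u : G} {U : Subgroup G} (hu : u ∈ U) : g * u * g⁻¹ ∈ lc g U :=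
  ⟨u, hu, rfl⟩

theorem card_lc (g : G) (U : Subgroup G) : Nat.card (lc g U) = Nat.card U :=
  Subgroup.card_map_of_injective (MulAut.conj g).injective

theorem lc_ne_bot {g : G} {U : Subgroup G} (h : U ≠ ⊥) : lc g U ≠ ⊥ := by
  intro h1
  exact h ((Subgroup.map_eq_bot_iff_of_injective U (MulAut.conj g).injective).mp h1)

theorem normalizer_lc (g : G) (U : Subgroup G) :
    Subgroup.normalizer ((lc g U : Subgroup G) : Set G) = lc g (Subgroup.normalizer (U : Set G)) :=
  (Subgroup.map_equiv_normalizer_eq U (MulAut.conj g)).symm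

/-- `V` is fully normalized with respect to `P`. -/
def FN (p : ℕ) (P V : Subgroup G) : Prop :=
  ¬ p ∣ (P ⊓ Subgroup.normalizer (V : Set G)).relIndex (Subgroup.normalizer (V : Set G))

section

variable [Finite G] {p : ℕ} [Fact p.Prime]

theorem card_lt_normalizer (P : Sylow p G) {U : Subgroup G} (hU : U ≤ P)
    (hne : U ≠ (P : Subgroup G)) :
    Nat.card U < Nat.card ((P : Subgroup G) ⊓ Subgroup.normalizer (U : Set G) : Subgroup G) := by
  obtain ⟨x, hxP, hxN, hxU⟩ := exists_mem_normalizer_notMem P hU hne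
  by_contra hcon
  rw [not_lt] at hcon
  have hle : U ≤ (P : Subgroup G) ⊓ Subgroup.normalizer (U : Set G) :=
    le_inf hU Subgroup.le_normalizer
  have := Subgroup.eq_of_le_of_card_ge hle hcon
  apply hxU
  rw [this]
  exact Subgroup.mem_inf.mpr ⟨hxP, hxN⟩

/-- Every subgroup has a fully normalized conjugate, the conjugating element carrying `N_P(U)`
into `P`. -/
theorem exists_fn (P : Sylow p G) (U : Subgroup G) :
    ∃ t : G, (∀ x ∈ (P : Subgroup G) ⊓ Subgroup.normalizer (U : Set G), t * x * t⁻¹ ∈ P) ∧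
      FN p (P : Subgroup G) (lc t U) := by
  set N := Subgroup.normalizer (U : Set G) with hN
  have hR₀ : IsPGroup p ((P : Subgroup G) ⊓ N : Subgroup G) := P.isPGroup'.to_le inf_le_left
  obtain ⟨S, hR₀S, hSN, hSp, hSidx⟩ := exists_sylIn_ge (inf_le_right : (P : Subgroup G) ⊓ N ≤ N) hR₀
  obtain ⟨Q, hQ⟩ := hSp.exists_le_sylow
  obtain ⟨g, hg⟩ := MulAction.exists_smul_eq G P Q
  have hSg : ∀ s ∈ S, g⁻¹ * s * g ∈ (P : Subgroup G) := by
    intro s hs
    have := hQ hs
    rw [← hg, mem_smul_sylow] at this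
    exact this
  refine ⟨g⁻¹, ?_, ?_⟩
  · intro x hx
    rw [inv_inv]
    exact hSg x (hR₀S hx)
  · unfold FN
    rw [normalizer_lc]
    have h1 : lc g⁻¹ S ≤ (P : Subgroup G) ⊓ lc g⁻¹ N := by
      rintro _ ⟨s, hs, rfl⟩
      refine Subgroup.mem_inf.mpr ⟨?_, ⟨s, hSN hs, rfl⟩⟩
      have := hSg s hs
      simpa [MulAut.conj_apply] using this
    have h2 : (lc g⁻¹ S).relIndex (lc g⁻¹ N) = S.relIndex N :=
      Subgroup.relIndex_map_map_of_injective S N (MulAut.conj g⁻¹).injective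
    intro hd
    apply hSidx
    rw [← h2]
    exact hd.trans (Subgroup.relIndex_dvd_of_le_left _ h1)

/-- A conjugate `V` of a fully normalized subgroup `U` can be carried to `U` by an element
carrying `N_P(V)` into `P`. -/
theorem exists_to_fn (P : Sylow p G) (U V : Subgroup G) (hU : FN p (P : Subgroup G) U) (g : G)
    (hg : lc g V = U) :
    ∃ s : G, lc s V = U ∧
      ∀ x ∈ (P : Subgroup G) ⊓ Subgroup.normalizer (V : Set G), s * x * s⁻¹ ∈ P := by
  have hSp : IsPGroup p ((P : Subgroup G) ⊓ Subgroup.normalizer (U : Set G) : Subgroup G) :=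
    P.isPGroup'.to_le inf_le_left
  have hTp : IsPGroup p (lc g ((P : Subgroup G) ⊓ Subgroup.normalizer (V : Set G))) :=
    (P.isPGroup'.to_le inf_le_left).map _
  have hT : lc g ((P : Subgroup G) ⊓ Subgroup.normalizer (V : Set G)) ≤
      Subgroup.normalizer (U : Set G) := by
    rw [← hg, normalizer_lc]
    exact Subgroup.map_mono inf_le_right
  obtain ⟨m, hm, hmx⟩ := exists_conj_mem_of_sylIn (inf_le_right) hSp hU hT hTp
  have hmN : m ∈ Subgroup.normalizer (U : Set G) := pGen_le _ hm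
  refine ⟨m⁻¹ * g, ?_, ?_⟩
  · have h1 : lc (m⁻¹ * g) V = lc m⁻¹ (lc g V) := by
      ext x
      rw [mem_lc, mem_lc, mem_lc]
      have : (m⁻¹ * g)⁻¹ * x * (m⁻¹ * g) = g⁻¹ * (m⁻¹⁻¹ * x * m⁻¹) * g := by group
      rw [this]
    rw [h1, hg]
    ext x
    rw [mem_lc, inv_inv]
    exact ((Subgroup.mem_normalizer_iff.mp hmN) x).symm
  · intro x hx
    have h1 := hmx (g * x * g⁻¹) (conj_mem_lc hx)
    have e : m⁻¹ * g * x * (m⁻¹ * g)⁻¹ = m⁻¹ * (g * x * g⁻¹) * m := by group
    rw [e]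
    exact h1.1


theorem act_bot (H : Subgroup G) (g : G) : Act H (⊥ : Subgroup G) g := by
  refine ⟨1, H.one_mem, ?_⟩
  intro u hu
  rw [Subgroup.mem_bot] at hu
  subst hu
  simp

/-- Reduction of control of strong fusion to normalizers of fully normalized subgroups. -/
theorem ctl_of_fn (P : Sylow p G) (H : Subgroup G)
    (hNP : Subgroup.normalizer ((P : Subgroup G) : Set G) ≤ H)
    (hfn : ∀ V : Subgroup G, V ≤ P → V ≠ ⊥ → V ≠ (P : Subgroup G) → FN p (P : Subgroup G) V →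
      (∀ V' : Subgroup G, V' ≤ P → Nat.card V < Nat.card V' →
        ∀ g : G, (∀ u ∈ V', g * u * g⁻¹ ∈ (P : Subgroup G)) → Act H V' g) →
      ∀ n ∈ Subgroup.normalizer (V : Set G), Act H V n) :
    ∀ U : Subgroup G, U ≤ P → ∀ g : G, (∀ u ∈ U, g * u * g⁻¹ ∈ (P : Subgroup G)) → Act H U g := by
  have key : ∀ m : ℕ, ∀ U : Subgroup G, U ≤ P →
      Nat.card (P : Subgroup G) - Nat.card U = m →
      ∀ g : G, (∀ u ∈ U, g * u * g⁻¹ ∈ (P : Subgroup G)) → Act H U g := by
    intro m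
    induction m using Nat.strong_induction_on with
    | _ m ih =>
    intro U hUP hm g hg
    by_cases hU0 : U = ⊥
    · subst hU0; exact act_bot H g
    by_cases hUP' : U = (P : Subgroup G)
    · apply Act.of_mem
      apply hNP
      apply Cfsg.Agent.S0650.mem_normalizer_of_conj_mem
      intro x hx
      exact hg x (hUP' ▸ hx)
    have hcardle : ∀ X : Subgroup G, X ≤ P → Nat.card X ≤ Nat.card (P : Subgroup G) :=
      fun X hX => Subgroup.card_le_of_le hX
    have IH : ∀ V' : Subgroup G, V' ≤ P → Nat.card U < Nat.card V' →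
        ∀ g : G, (∀ u ∈ V', g * u * g⁻¹ ∈ (P : Subgroup G)) → Act H V' g := by
      intro V' hV'P hlt g' hg'
      have h1 := hcardle V' hV'P
      have h2 := hcardle U hUP
      exact ih (Nat.card (P : Subgroup G) - Nat.card V') (by omega) V' hV'P rfl g' hg'
    obtain ⟨t, ht, hfnU⟩ := exists_fn P U
    have hUle : U ≤ (P : Subgroup G) ⊓ Subgroup.normalizer (U : Set G) :=
      le_inf hUP Subgroup.le_normalizer
    have hAt : Act H U t :=
      (IH _ inf_le_left (card_lt_normalizer P hUP hUP') t ht).mono hUle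
    have hUsP : lc t U ≤ P := by
      rintro _ ⟨u, hu, rfl⟩
      exact ht u (hUle hu)
    -- the image `V`
    have hVP : lc g U ≤ P := by
      rintro _ ⟨u, hu, rfl⟩
      exact hg u hu
    have hVcard : Nat.card (lc g U) = Nat.card U := card_lc g U
    have hVne : lc g U ≠ (P : Subgroup G) := by
      intro h
      apply hUP'
      apply Subgroup.eq_of_le_of_card_ge hUP
      rw [← hVcard, h]
    have hconj : lc (t * g⁻¹) (lc g U) = lc t U := by
      ext x
      rw [mem_lc, mem_lc, mem_lc]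
      have : g⁻¹ * ((t * g⁻¹)⁻¹ * x * (t * g⁻¹)) * g = t⁻¹ * x * t := by group
      rw [this]
    obtain ⟨s, hs, hsP⟩ := exists_to_fn P (lc t U) (lc g U) hfnU (t * g⁻¹) hconj
    have hVle : lc g U ≤ (P : Subgroup G) ⊓ Subgroup.normalizer ((lc g U : Subgroup G) : Set G) :=
      le_inf hVP Subgroup.le_normalizer
    have hAs : Act H (lc g U) s := by
      have h1 := IH _ inf_le_left (by rw [← hVcard]; exact card_lt_normalizer P hVP hVne) s hsP
      exact h1.mono hVle
    have hAs' : Act H (lc t U) s⁻¹ := by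
      apply hAs.inv
      intro v hv
      rw [← hs] at hv
      exact mem_lc.mp hv
    -- the normalizing element
    have hn : s * g * t⁻¹ ∈ Subgroup.normalizer ((lc t U : Subgroup G) : Set G) := by
      apply Cfsg.Agent.S0650.mem_normalizer_of_conj_mem
      rintro _ ⟨u, hu, rfl⟩
      rw [← hs]
      have e : s * g * t⁻¹ * ((MulAut.conj t).toMonoidHom u) * (s * g * t⁻¹)⁻¹ =
          s * (g * u * g⁻¹) * s⁻¹ := by
        simp only [MulEquiv.coe_toMonoidHom, MulAut.conj_apply]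
        group
      rw [e]
      exact conj_mem_lc (conj_mem_lc hu)
    have hUs0 : lc t U ≠ ⊥ := lc_ne_bot hU0
    have hUsne : lc t U ≠ (P : Subgroup G) := by
      intro h
      apply hUP'
      apply Subgroup.eq_of_le_of_card_ge hUP
      rw [← card_lc t U, h]
    have hAn : Act H (lc t U) (s * g * t⁻¹) := by
      apply hfn (lc t U) hUsP hUs0 hUsne hfnU ?_ _ hn
      intro V' hV'P hlt
      rw [card_lc] at hlt
      exact IH V' hV'P hlt
    have h1 : Act H U (s * g * t⁻¹ * t) := hAt.mul hAn (fun u hu => conj_mem_lc hu)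
    have h2 : Act H U (s⁻¹ * (s * g * t⁻¹ * t)) := by
      apply h1.mul hAs'
      intro u hu
      have e : s * g * t⁻¹ * t * u * (s * g * t⁻¹ * t)⁻¹ = s * (g * u * g⁻¹) * s⁻¹ := by group
      rw [e, ← hs]
      exact conj_mem_lc (conj_mem_lc hu)
    have e : s⁻¹ * (s * g * t⁻¹ * t) = g := by group
    rw [e] at h2
    exact h2
  intro U hUP g hg
  exact key _ U hUP rfl g hg

/-- The climbing theorem: if `N(W(N_P(V)))` controls strong fusion in `N_P(V)` with respect to
`N_G(V)` for all nontrivial fully normalized `V ≤ P`, then `N(W(P))` controls strong fusion in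
`P`. -/
theorem ctl_of_local (P : Sylow p G) (W : Subgroup G → Subgroup G)
    (W1 : ∀ R : Subgroup G, R ≤ P → W R ≤ R)
    (W2 : ∀ R : Subgroup G, R ≤ P →
      Subgroup.normalizer (R : Set G) ≤ Subgroup.normalizer ((W R : Subgroup G) : Set G))
    (W3 : ∀ V : Subgroup G, V ≤ P → W ((P : Subgroup G) ⊓ Subgroup.normalizer (V : Set G)) ≠ ⊥)
    (LC : ∀ V : Subgroup G, V ≤ P → V ≠ ⊥ → FN p (P : Subgroup G) V →
      ∀ U : Subgroup G, U ≤ (P : Subgroup G) ⊓ Subgroup.normalizer (V : Set G) →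
      ∀ n ∈ Subgroup.normalizer (V : Set G), (∀ u ∈ U, n * u * n⁻¹ ∈ (P : Subgroup G)) →
      ∃ y ∈ Subgroup.normalizer
          ((W ((P : Subgroup G) ⊓ Subgroup.normalizer (V : Set G)) : Subgroup G) : Set G),
        ∀ u ∈ U, n * u * n⁻¹ = y * u * y⁻¹) :
    ∀ U : Subgroup G, U ≤ P → ∀ g : G, (∀ u ∈ U, g * u * g⁻¹ ∈ (P : Subgroup G)) →
      Act (Subgroup.normalizer ((W (P : Subgroup G) : Subgroup G) : Set G)) U g := by
  set H := Subgroup.normalizer ((W (P : Subgroup G) : Subgroup G) : Set G) with hH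
  apply ctl_of_fn P H (W2 _ le_rfl)
  intro V hVP hV0 hVne hVfn IH n hn
  have hVle : V ≤ (P : Subgroup G) ⊓ Subgroup.normalizer (V : Set G) :=
    le_inf hVP Subgroup.le_normalizer
  have hnV : ∀ u ∈ V, n * u * n⁻¹ ∈ V := fun u hu =>
    (Subgroup.mem_normalizer_iff.mp hn u).mp hu
  obtain ⟨y, hy, hyn⟩ := LC V hVP hV0 hVfn V hVle n hn (fun u hu => hVP (hnV u hu))
  -- secondary induction
  have key : ∀ m : ℕ, ∀ V₀ : Subgroup G, V₀ ≤ P →
      Nat.card (P : Subgroup G) -
        Nat.card ((P : Subgroup G) ⊓ Subgroup.normalizer (V₀ : Set G) : Subgroup G) = m →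
      Nat.card V < Nat.card ((P : Subgroup G) ⊓ Subgroup.normalizer (V₀ : Set G) : Subgroup G) →
      ∀ y ∈ Subgroup.normalizer
          ((W ((P : Subgroup G) ⊓ Subgroup.normalizer (V₀ : Set G)) : Subgroup G) : Set G),
      ∀ U : Subgroup G, U ≤ (P : Subgroup G) ⊓ Subgroup.normalizer (V₀ : Set G) →
      (∀ u ∈ U, y * u * y⁻¹ ∈ (P : Subgroup G) ⊓ Subgroup.normalizer (V₀ : Set G)) →
      Act H U y := by
    intro m
    induction m using Nat.strong_induction_on with
    | _ m ih =>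
    intro V₀ hV₀P hm hlt y hy U hU hyU
    set R := (P : Subgroup G) ⊓ Subgroup.normalizer (V₀ : Set G) with hR
    have hRP : R ≤ P := inf_le_left
    by_cases hRP' : R = (P : Subgroup G)
    · apply Act.of_mem
      rw [hRP'] at hy
      exact hy
    set H₁ := W R with hH₁
    have hH₁R : H₁ ≤ R := W1 R hRP
    have hH₁P : H₁ ≤ P := hH₁R.trans hRP
    have hH₁0 : H₁ ≠ ⊥ := W3 V₀ hV₀P
    set P₁ := (P : Subgroup G) ⊓ Subgroup.normalizer (H₁ : Set G) with hP₁
    have hRP₁ : R ≤ P₁ := le_inf hRP (Subgroup.le_normalizer.trans (W2 R hRP))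
    have hltP₁ : Nat.card R < Nat.card P₁ := by
      have h1 := card_lt_normalizer P hRP hRP'
      have h2 : (P : Subgroup G) ⊓ Subgroup.normalizer (R : Set G) ≤ P₁ :=
        le_inf inf_le_left (inf_le_right.trans (W2 R hRP))
      exact lt_of_lt_of_le h1 (Subgroup.card_le_of_le h2)
    obtain ⟨t, ht, hfnH₁⟩ := exists_fn P H₁
    have hH₁P₁ : H₁ ≤ P₁ := le_inf hH₁P Subgroup.le_normalizer
    have hV₁P : lc t H₁ ≤ P := by
      rintro _ ⟨u, hu, rfl⟩
      exact ht u (hH₁P₁ hu)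
    have hV₁0 : lc t H₁ ≠ ⊥ := lc_ne_bot hH₁0
    set Rs := (P : Subgroup G) ⊓ Subgroup.normalizer ((lc t H₁ : Subgroup G) : Set G) with hRs
    have hP₁Rs : lc t P₁ ≤ Rs := by
      rintro _ ⟨x, hx, rfl⟩
      refine Subgroup.mem_inf.mpr ⟨ht x hx, ?_⟩
      rw [normalizer_lc]
      exact conj_mem_lc hx.2
    have hcardRs : Nat.card P₁ ≤ Nat.card Rs := by
      rw [← card_lc t P₁]
      exact Subgroup.card_le_of_le hP₁Rs
    have hAt : Act H P₁ t := IH P₁ inf_le_left (lt_trans hlt hltP₁) t ht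
    -- the conjugated element
    have hy' : t * y * t⁻¹ ∈ Subgroup.normalizer ((lc t H₁ : Subgroup G) : Set G) := by
      rw [normalizer_lc]
      exact conj_mem_lc hy
    have hU'Rs : lc t U ≤ Rs := (Subgroup.map_mono (hU.trans hRP₁)).trans hP₁Rs
    have hy'U : ∀ u' ∈ lc t U, t * y * t⁻¹ * u' * (t * y * t⁻¹)⁻¹ ∈ lc t R := by
      rintro _ ⟨u, hu, rfl⟩
      have e : t * y * t⁻¹ * ((MulAut.conj t).toMonoidHom u) * (t * y * t⁻¹)⁻¹ =
          t * (y * u * y⁻¹) * t⁻¹ := by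
        simp only [MulEquiv.coe_toMonoidHom, MulAut.conj_apply]
        group
      rw [e]
      exact conj_mem_lc (hyU u hu)
    have hRRs : lc t R ≤ Rs := (Subgroup.map_mono hRP₁).trans hP₁Rs
    obtain ⟨y₂, hy₂, hy₂u⟩ := LC (lc t H₁) hV₁P hV₁0 hfnH₁ (lc t U) hU'Rs (t * y * t⁻¹) hy'
      (fun u' hu' => (Subgroup.mem_inf.mp (hRRs (hy'U u' hu'))).1)
    have hcR := Subgroup.card_le_of_le hRP
    have hcRs : Nat.card Rs ≤ Nat.card (P : Subgroup G) := Subgroup.card_le_of_le inf_le_left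
    have hA₂ : Act H (lc t U) y₂ := by
      apply ih (Nat.card (P : Subgroup G) - Nat.card Rs) (by omega) (lc t H₁) hV₁P rfl
        (lt_of_lt_of_le (lt_trans hlt hltP₁) hcardRs) y₂ hy₂ (lc t U) hU'Rs
      intro u' hu'
      rw [← hy₂u u' hu']
      exact hRRs (hy'U u' hu')
    have hA' : Act H (lc t U) (t * y * t⁻¹) := hA₂.congr hy₂u
    have hAt' : Act H (lc t R) t⁻¹ := by
      apply hAt.inv
      intro v hv
      exact hRP₁ (mem_lc.mp hv)
    have h1 : Act H U (t * y * t⁻¹ * t) :=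
      (hAt.mono (hU.trans hRP₁)).mul hA' (fun u hu => conj_mem_lc hu)
    have h2 : Act H U (t⁻¹ * (t * y * t⁻¹ * t)) := by
      apply h1.mul hAt'
      intro u hu
      have e : t * y * t⁻¹ * t * u * (t * y * t⁻¹ * t)⁻¹ = t * (y * u * y⁻¹) * t⁻¹ := by group
      rw [e]
      exact conj_mem_lc (hyU u hu)
    have e : t⁻¹ * (t * y * t⁻¹ * t) = y := by group
    rw [e] at h2
    exact h2
  have hAy : Act H V y := by
    apply key _ V hVP rfl (card_lt_normalizer P hVP hVne) y hy V hVle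
    intro u hu
    rw [← hyn u hu]
    exact hVle (hnV u hu)
  exact hAy.congr hyn

end

end Cfsg.Agent.Lib.Helper97.FusCtl
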