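import Mathlib
import Cfsg.Agent.Lib.Helper94.OMiPStmt

/-!
# S5991 (sub-call by helper94): transport of `TypeM` along an isometry (helper97)
-/

set_option autoImplicit false

universe u

open scoped Matrix

namespace Cfsg.Agent.Lib.Helper97.MChooseAux

open Cfsg.Agent.Lib.Helper94.OMiPStmt
open QuadraticMap

/-- `TypeM` is invariant under isometries of subspaces. -/
theorem transport {F : Type u} [Field F] {d : ℕ} {a b β : F} {W W' : Submodule F (Mi d → F)}
    (e : W ≃ₗ[F] W')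
    (he : ∀ w : W, Cfsg.quadFormMinus (d - 1) F a b ((e w : W') : Mi d → F) =
      Cfsg.quadFormMinus (d - 1) F a b (w : Mi d → F))
    (h : TypeM d a b β W) : TypeM d a b β W' := by
  classical
  obtain ⟨S, hSW, hS0, hSdim, w, hw, hSw, hQw⟩ := h
  obtain ⟨φ, hφ⟩ : ∃ φ : W →ₗ[F] (Mi d → F), φ = W'.subtype ∘ₗ e.toLinearMap := ⟨_, rfl⟩
  have hφa : ∀ v : W, φ v = ((e v : W') : Mi d → F) := by
    intro v
    rw [hφ]
    rfl
  have hφinj : Function.Injective φ := by
    rw [hφ]
    exact W'.injective_subtype.comp e.injective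
  refine ⟨(S.comap W.subtype).map φ, ?_, ?_, ?_, φ ⟨w, hw⟩, ?_, ?_, ?_⟩
  · rintro _ ⟨s, hs, rfl⟩
    rw [hφa]
    exact (e s).2
  · rintro _ ⟨s, hs, rfl⟩
    rw [hφa, he]
    exact hS0 _ hs
  · have h1 : Module.finrank F ↥((S.comap W.subtype).map φ) =
        Module.finrank F ↥(S.comap W.subtype) :=
      (Submodule.equivMapOfInjective φ hφinj _).finrank_eq.symm
    have h2 : Module.finrank F ↥(S.comap W.subtype) = Module.finrank F ↥S := by
      have h3 := Submodule.finrank_map_subtype_eq W (S.comap W.subtype)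
      rw [Submodule.map_comap_subtype, inf_eq_right.mpr hSW] at h3
      exact h3.symm
    rw [h1, h2, ← e.finrank_eq]
    exact hSdim
  · rw [hφa]
    exact (e ⟨w, hw⟩).2
  · rintro _ ⟨s, hs, rfl⟩
    have h1 := hSw (s : Mi d → F) hs
    have h2 : φ s + φ ⟨w, hw⟩ = ((e (s + ⟨w, hw⟩) : W') : Mi d → F) := by
      rw [← map_add, hφa]
    unfold polar at h1 ⊢
    rw [h2, hφa, hφa, he, he, he]
    exact h1
  · rw [hφa, he]
    exact hQw

/-- a nonzero nonsquare. -/
theorem exists_nonsq (F : Type u) [Field F] [Fintype F] (hodd : Odd (Fintype.card F)) :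
    ∃ ν : F, ν ≠ 0 ∧ ∀ c : F, ν ≠ c * c * 1 := by
  have hch : ringChar F ≠ 2 := by
    intro h2
    have := FiniteField.even_card_iff_char_two.mp h2
    rw [Nat.odd_iff] at hodd
    omega
  obtain ⟨ν, hν⟩ := FiniteField.exists_nonsquare (F := F) hch
  refine ⟨ν, ?_, ?_⟩
  · rintro rfl
    exact hν ⟨0, by simp⟩
  · intro c hc
    exact hν ⟨c, by rw [hc]; ring⟩

end Cfsg.Agent.Lib.Helper97.MChooseAux
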