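import Mathlib
import Cfsg.Agent.Lib.Helper94.OMiPStmt
import Cfsg.Agent.Lib.Helper97.MChooseAux

/-!
# S5991 / MCHOOSE1 (sub-call by helper94; helper97, second seat)
-/

set_option autoImplicit false

universe u

open scoped Matrix

namespace Cfsg.Agent.Lib.Helper97.MCHOOSE1

open Cfsg.Agent.Lib.Helper94.OMiPStmt
open Cfsg.Agent.Lib.Helper97.MChooseAux

theorem main (hU : MUniq.{u}) : MChoose1.{u} := by
  intro F _ _ hodd d m hd hm a b hab W₀ hW₀ hnd
  classical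
  by_contra hcon
  push Not at hcon
  obtain ⟨ν, hν0, hν⟩ := exists_nonsq F hodd
  obtain ⟨W1, ⟨-, -, e1, he1⟩, hT1⟩ := hcon 1 one_ne_zero
  obtain ⟨W2, ⟨-, -, e2, he2⟩, hT2⟩ := hcon ν hν0
  have t1 := transport e1 he1 hT1
  have t2 := transport e2 he2 hT2
  obtain ⟨c, hc⟩ := hU F hodd d hd a b hab W₀ hnd ν 1 one_ne_zero t2 t1
  exact hν c hc

end Cfsg.Agent.Lib.Helper97.MCHOOSE1
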