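import Mathlib
import Cfsg.Agent.Lib.Helper94.OMiPStmt
import Cfsg.Agent.Lib.Helper97.MChooseAux
import Cfsg.Agent.Lib.Helper44.WittND2
import Cfsg.Agent.Lib.Helper44.NegPairs
import Cfsg.Agent.Lib.Helper44.FinSq

/-!
# S5991 / MCHOOSE3 (sub-call by helper94; helper97, second seat)
-/

set_option autoImplicit false

universe u

open scoped Matrix

namespace Cfsg.Agent.Lib.Helper97.MCHOOSE3

open Cfsg.Agent.Lib.Helper94.OMiPStmt
open Cfsg.Agent.Lib.Helper97.MChooseAux
open Cfsg.Agent.Lib.Helper44.QSpace Cfsg.Agent.Lib.Helper44.NegPairs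
open Cfsg.Agent.Lib.Helper44.OGroup
open Cfsg.Agent.Lib.Helper44.WittND Cfsg.Agent.Lib.Helper44.WittND2
open QuadraticMap

theorem main (hU : MUniq.{u}) (hS : MSplit.{u}) : MChoose3.{u} := by
  intro F _ _ hodd d m hd hm a b hab W₀ hW₀ hnd
  classical
  have h2 : (2 : F) ≠ 0 := Cfsg.Agent.Lib.Helper44.FinSq.two_ne_zero_of_odd_card hodd
  have hSep : Sep (minusQ (d - 1) F a b) := sep_minusQ h2 (d - 1) a b hab
  have h1mem : (1 : Matrix.GeneralLinearGroup (Mi d) F) ∈
      Cfsg.isometryGroup F (Cfsg.quadFormMinus (d - 1) F a b) := Subgroup.one_mem _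
  have hst1 : StabM ((1 : Matrix.GeneralLinearGroup (Mi d) F) : Matrix (Mi d) (Mi d) F) W₀ := by
    rintro _ ⟨y, hy, rfl⟩
    simpa using hy
  obtain ⟨U₀, hperp0, -, hU₀nd, -, -, -⟩ := hS F hodd d hd a b hab 1 h1mem W₀ hnd hst1
  have key : ∀ β : F, (∃ W : Submodule F (Mi d → F), MemM d a b m W₀ W ∧
      ∃ U : Submodule F (Mi d → F), IsPerpM d a b W U ∧ TypeM d a b β U) →
      TypeM d a b β U₀ := by
    rintro β ⟨W, ⟨hWm, hWnd, e, he⟩, U, hperp, hT⟩
    have hinf : W ⊓ LinearMap.BilinForm.orthogonal (polarBilin (minusQ (d - 1) F a b)) W = ⊥ := by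
      rw [eq_bot_iff]
      intro v hv
      obtain ⟨hv1, hv2⟩ := Submodule.mem_inf.1 hv
      by_contra hv0
      have hv0' : v ≠ 0 := fun h => hv0 ((Submodule.mem_bot F).2 h)
      obtain ⟨⟨y, hy, hyv⟩, -⟩ := hWnd v hv1 hv0'
      exact hyv (hv2 y hy)
    obtain ⟨g, hg, hgW⟩ := exists_O_map hSep hinf e he
    have hpol : ∀ u v : Mi d → F, polar (Cfsg.quadFormMinus (d - 1) F a b) (g u) (g v) =
        polar (Cfsg.quadFormMinus (d - 1) F a b) u v := fun u v => polar_of_mem_O hg u v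
    have hmap : U.map (g : (Mi d → F) →ₗ[F] (Mi d → F)) = U₀ := by
      apply le_antisymm
      · rintro _ ⟨v, hv, rfl⟩
        rw [hperp0]
        intro u₀ hu₀
        rw [← hgW] at hu₀
        obtain ⟨u, hu, rfl⟩ := hu₀
        show polar (Cfsg.quadFormMinus (d - 1) F a b) (g u) (g v) = 0
        rw [hpol]
        exact (hperp v).1 hv u hu
      · intro v₀ hv₀
        refine ⟨g.symm v₀, ?_, ?_⟩
        · show g.symm v₀ ∈ U
          rw [hperp]
          intro u hu
          rw [← hpol]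
          have h3 : g (g.symm v₀) = v₀ := g.apply_symm_apply v₀
          rw [h3]
          refine (hperp0 v₀).1 hv₀ (g u) ?_
          rw [← hgW]
          exact ⟨u, hu, rfl⟩
        · show g (g.symm v₀) = v₀
          exact g.apply_symm_apply v₀
    refine transport ((g.submoduleMap U).trans (LinearEquiv.ofEq _ _ hmap)) ?_ hT
    intro w
    show Cfsg.quadFormMinus (d - 1) F a b (g (w : Mi d → F)) = _
    exact hg w
  by_contra hcon
  push Not at hcon
  obtain ⟨ν, hν0, hν⟩ := exists_nonsq F hodd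
  have t1 := key 1 (hcon 1 one_ne_zero)
  have t2 := key ν (hcon ν hν0)
  obtain ⟨c, hc⟩ := hU F hodd d hd a b hab U₀ hU₀nd ν 1 one_ne_zero t2 t1
  exact hν c hc

end Cfsg.Agent.Lib.Helper97.MCHOOSE3
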