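import Mathlib
import Cfsg.Agent.Lib.Helper15.NpcStmt

/-!
# S3875 piece SUP (helper97): `P N = H` in a minimal non-`p`-closed group
-/

set_option autoImplicit false

namespace Cfsg.Agent.Lib.Helper97.NpcSUP

open Cfsg.Agent.Lib.Helper15.NpcStmt

/-- a group with one normal Sylow `p`-subgroup is `p`-closed -/
theorem isPClosed_of_normal {p : ℕ} [Fact p.Prime] {H : Type*} [Group H] [Finite H]
    (P : Sylow p H) (hP : (P : Subgroup H).Normal) : Cfsg.IsPClosed p H := by
  intro Q
  have hu := Sylow.unique_of_normal P hP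
  have hQ : Q = P := Subsingleton.elim Q P
  rw [hQ]
  exact hP

theorem main : SupTop := by
  intro p _ H _ _ hmin N hN hN1 P
  obtain ⟨hnot, hsub, hquot⟩ := hmin
  by_contra hne
  apply hnot
  -- the image of `P` in `H ⧸ N` is a normal Sylow subgroup
  have hsurj : Function.Surjective (QuotientGroup.mk' N) := QuotientGroup.mk'_surjective N
  have hPbar : ((P.mapSurjective hsurj : Sylow p (H ⧸ N)) : Subgroup (H ⧸ N)).Normal :=
    hquot N hN1 _
  rw [Sylow.coe_mapSurjective] at hPbar
  have hKn : ((P : Subgroup H) ⊔ N).Normal := by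
    have h1 : ((P : Subgroup H).map (QuotientGroup.mk' N)).comap (QuotientGroup.mk' N) =
        (P : Subgroup H) ⊔ N := by
      rw [Subgroup.comap_map_eq, QuotientGroup.ker_mk']
    rw [← h1]
    exact Subgroup.Normal.comap hPbar _
  -- `P` is a Sylow subgroup of the proper subgroup `K = P N`, which is `p`-closed
  have hPK : (P : Subgroup H) ≤ (P : Subgroup H) ⊔ N := le_sup_left
  have hclosed := hsub _ hne
  have hP'n : ((P.subtype hPK : Sylow p ↥((P : Subgroup H) ⊔ N)) :
      Subgroup ↥((P : Subgroup H) ⊔ N)).Normal := hclosed _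
  have hchar : ((P.subtype hPK : Sylow p ↥((P : Subgroup H) ⊔ N)) :
      Subgroup ↥((P : Subgroup H) ⊔ N)).Characteristic :=
    Sylow.characteristic_of_normal _ hP'n
  have hmap : ((P.subtype hPK : Sylow p ↥((P : Subgroup H) ⊔ N)) :
      Subgroup ↥((P : Subgroup H) ⊔ N)).map ((P : Subgroup H) ⊔ N).subtype = (P : Subgroup H) := by
    rw [Sylow.coe_subtype, Subgroup.map_subgroupOf_eq_of_le hPK]
  have hPn : (P : Subgroup H).Normal := by
    rw [← hmap]
    exact ConjAct.normal_of_characteristic_of_normal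
  exact isPClosed_of_normal P hPn

end Cfsg.Agent.Lib.Helper97.NpcSUP
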