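import Mathlib
import Cfsg.Agent.Lib.Helper45.OMiStmt
import Cfsg.Agent.Lib.Helper44.WittND2
import Cfsg.Agent.Lib.Helper44.NegPairs
import Cfsg.Agent.Lib.Helper44.FinSq

/-!
# S5991 / CLS2 (call by helper45; helper97, second seat): `Cls2` from `Cls1` by Witt

An isometry `g` of `V` carries `W` to `W'` (Witt), hence `W^⊥` to `W'^⊥`; a `c`-structure on the
perp of `W` is a `c`-structure on the subspace `W^⊥`; then `Cls1` on the class of `W'^⊥`.
-/

set_option autoImplicit false

universe u

open scoped Matrix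

namespace Cfsg.Agent.Lib.Helper97.OMiCLS2

open Cfsg.Agent.Lib.Helper45.OMiStmt
open Cfsg.Agent.Lib.Helper44.QSpace Cfsg.Agent.Lib.Helper44.NegPairs
open Cfsg.Agent.Lib.Helper44.OGroup
open Cfsg.Agent.Lib.Helper44.WittND Cfsg.Agent.Lib.Helper44.WittND2
open QuadraticMap

theorem main (hC1 : Cls1.{u}) : Cls2.{u} := by
  intro F _ _ hodd d m hd hm a b hab W₀ W W' hW hW' c c' hc hc'
  classical
  have h2 : (2 : F) ≠ 0 := Cfsg.Agent.Lib.Helper44.FinSq.two_ne_zero_of_odd_card hodd
  have hSep : Sep (minusQ (d - 1) F a b) := sep_minusQ h2 (d - 1) a b hab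
  have hVdim : Module.finrank F (M d → F) = 2 * d := by
    rw [Module.finrank_pi]
    simp
    omega
  have hsymm : ∀ u v : M d → F, polar (Cfsg.quadFormMinus (d - 1) F a b) u v =
      polar (Cfsg.quadFormMinus (d - 1) F a b) v u := fun u v => polar_comm _ _ _
  -- facts about the perp of a nondegenerate subspace
  have perpfacts : ∀ Y : Submodule F (M d → F),
      Cfsg.Geo.IsNondegenerateOn (polar (Cfsg.quadFormMinus (d - 1) F a b)) Y →
      Y ⊓ LinearMap.BilinForm.orthogonal (polarBilin (minusQ (d - 1) F a b)) Y = ⊥ ∧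
      Cfsg.Geo.IsNondegenerateOn (polar (Cfsg.quadFormMinus (d - 1) F a b))
        (LinearMap.BilinForm.orthogonal (polarBilin (minusQ (d - 1) F a b)) Y) ∧
      Module.finrank F ↥(LinearMap.BilinForm.orthogonal (polarBilin (minusQ (d - 1) F a b)) Y)
        = 2 * d - Module.finrank F ↥Y := by
    intro Y hY
    have hinf : Y ⊓ LinearMap.BilinForm.orthogonal (polarBilin (minusQ (d - 1) F a b)) Y = ⊥ := by
      rw [eq_bot_iff]
      intro v hv
      obtain ⟨hv1, hv2⟩ := Submodule.mem_inf.1 hv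
      by_contra hv0
      have hv0' : v ≠ 0 := fun h => hv0 ((Submodule.mem_bot F).2 h)
      obtain ⟨⟨y, hy, hyv⟩, -⟩ := hY v hv1 hv0'
      exact hyv (hv2 y hy)
    refine ⟨hinf, ?_, ?_⟩
    · have hnd := ndsub_orth hSep hinf
      intro w hw hw0
      have h1' : ∃ y ∈ LinearMap.BilinForm.orthogonal (polarBilin (minusQ (d - 1) F a b)) Y,
          polar (minusQ (d - 1) F a b) w y ≠ 0 := by
        by_contra hcon
        push Not at hcon
        exact hw0 (hnd w hw hcon)
      obtain ⟨y, hy, hwy⟩ := h1'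
      refine ⟨⟨y, hy, ?_⟩, ⟨y, hy, hwy⟩⟩
      intro h4'
      exact hwy ((hsymm w y).trans h4')
    · have h1 := LinearMap.BilinForm.finrank_orthogonal (nondegenerate_of_sep hSep) Y
      rw [hVdim] at h1
      exact h1
  -- a structure on the perp is a structure on the orthogonal complement
  have cstr : ∀ (Y : Submodule F (M d → F)) (k : F),
      Cfsg.Geo.IsNondegenerateOn (polar (Cfsg.quadFormMinus (d - 1) F a b)) Y →
      CStrPerp d F a b Y k →
      CStr d F a b (LinearMap.BilinForm.orthogonal (polarBilin (minusQ (d - 1) F a b)) Y) k := by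
    rintro Y k hY ⟨ut, hut, hQ, L, hL1, hL2, hL3, hL4⟩
    refine ⟨ut, ?_, hQ, L, ?_, hL2, hL3, ?_⟩
    · intro w hw
      show polar (Cfsg.quadFormMinus (d - 1) F a b) w ut = 0
      rw [hsymm]
      exact hut w hw
    · intro v hv w hw
      show polar (Cfsg.quadFormMinus (d - 1) F a b) w v = 0
      rw [hsymm]
      exact hL1 v hv w hw
    · rw [(perpfacts Y hY).2.2]
      exact hL4
  obtain ⟨hWm, hWnd, e1, he1⟩ := hW
  obtain ⟨hWm', hWnd', e2, he2⟩ := hW'
  obtain ⟨hinf, hUnd, hUdim⟩ := perpfacts W hWnd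
  obtain ⟨hinf', hUnd', hUdim'⟩ := perpfacts W' hWnd'
  -- Witt
  have he : ∀ w : W, Cfsg.quadFormMinus (d - 1) F a b (((e1.trans e2.symm) w : W') : M d → F) =
      Cfsg.quadFormMinus (d - 1) F a b (w : M d → F) := by
    intro w
    have h3 := he2 ((e1.trans e2.symm) w)
    have h4 : e2 ((e1.trans e2.symm) w) = e1 w := by
      simp
    rw [h4, he1] at h3
    exact h3.symm
  obtain ⟨g, hg, hgW⟩ := exists_O_map hSep hinf (e1.trans e2.symm) he
  have hpol : ∀ u v : M d → F, polar (Cfsg.quadFormMinus (d - 1) F a b) (g u) (g v) =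
      polar (Cfsg.quadFormMinus (d - 1) F a b) u v := fun u v => polar_of_mem_O hg u v
  have hmap : (LinearMap.BilinForm.orthogonal (polarBilin (minusQ (d - 1) F a b)) W).map
      (g : (M d → F) →ₗ[F] (M d → F)) =
      LinearMap.BilinForm.orthogonal (polarBilin (minusQ (d - 1) F a b)) W' := by
    apply le_antisymm
    · rintro _ ⟨v, hv, rfl⟩
      intro u₀ hu₀
      rw [← hgW] at hu₀
      obtain ⟨u, hu, rfl⟩ := hu₀
      show polar (Cfsg.quadFormMinus (d - 1) F a b) (g u) (g v) = 0
      rw [hpol]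
      exact hv u hu
    · intro v₀ hv₀
      refine ⟨g.symm v₀, ?_, ?_⟩
      · intro u hu
        show polar (Cfsg.quadFormMinus (d - 1) F a b) u (g.symm v₀) = 0
        rw [← hpol]
        have h3 : g (g.symm v₀) = v₀ := g.apply_symm_apply v₀
        rw [h3]
        refine hv₀ (g u) ?_
        rw [← hgW]
        exact ⟨u, hu, rfl⟩
      · show g (g.symm v₀) = v₀
        exact g.apply_symm_apply v₀
  have memU : MemM d F a b (2 * d - m)
      (LinearMap.BilinForm.orthogonal (polarBilin (minusQ (d - 1) F a b)) W')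
      (LinearMap.BilinForm.orthogonal (polarBilin (minusQ (d - 1) F a b)) W) := by
    refine ⟨by rw [hUdim, hWm], hUnd,
      (g.submoduleMap _).trans (LinearEquiv.ofEq _ _ hmap), ?_⟩
    intro w
    show Cfsg.quadFormMinus (d - 1) F a b (g (w : M d → F)) = _
    exact hg w
  have memU' : MemM d F a b (2 * d - m)
      (LinearMap.BilinForm.orthogonal (polarBilin (minusQ (d - 1) F a b)) W')
      (LinearMap.BilinForm.orthogonal (polarBilin (minusQ (d - 1) F a b)) W') :=
    ⟨by rw [hUdim', hWm'], hUnd', LinearEquiv.refl _ _, fun _ => rfl⟩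
  exact hC1 F hodd d (2 * d - m) hd a b hab _ _ _ memU memU' c c' (cstr W c hWnd hc)
    (cstr W' c' hWnd' hc')

end Cfsg.Agent.Lib.Helper97.OMiCLS2
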