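import Mathlib
import Cfsg.Agent.Lib.Helper1.PDStmt

/-!
# S4020 / QUOT (call by helper1; helper97, second seat): (D) passes to quotients
-/

set_option autoImplicit false

universe u

namespace Cfsg.Agent.Lib.Helper97.PDQUOT

open Cfsg.Agent.Lib.Helper1.PDStmt

/-- the order of a preimage. -/
theorem card_comap' {G : Type u} [Group G] [Finite G] (N : Subgroup G) [N.Normal]
    (A : Subgroup (G ⧸ N)) :
    Nat.card ↥(A.comap (QuotientGroup.mk' N)) = Nat.card ↥N * Nat.card ↥A := by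
  have h1 : (A.comap (QuotientGroup.mk' N)).index = A.index :=
    Subgroup.index_comap_of_surjective A (QuotientGroup.mk'_surjective N)
  have h2 := Subgroup.card_mul_index (A.comap (QuotientGroup.mk' N))
  have h3 := Subgroup.card_mul_index A
  have h4 : Nat.card G = Nat.card (G ⧸ N) * Nat.card ↥N :=
    Subgroup.card_eq_card_quotient_mul_card_subgroup N
  have h5 : A.index ≠ 0 := Subgroup.index_ne_zero_of_finite
  rw [h1] at h2
  have h6 : Nat.card ↥(A.comap (QuotientGroup.mk' N)) * A.index =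
      (Nat.card ↥N * Nat.card ↥A) * A.index := by
    rw [h2, h4, ← h3]
    ring
  exact Nat.eq_of_mul_eq_mul_right (Nat.pos_of_ne_zero h5) h6

/-- a `q`-subgroup of the quotient is the image of a `q`-subgroup of prescribed order. -/
theorem lift {G : Type u} [Group G] [Finite G] (N : Subgroup G) [N.Normal] (q : ℕ)
    [Fact q.Prime] (A : Subgroup (G ⧸ N)) (hA : IsPGroup q ↥A) :
    ∃ A₀ : Subgroup G, IsPGroup q ↥A₀ ∧
      Nat.card ↥A₀ = q ^ ((Nat.card ↥N * Nat.card ↥A).factorization q) ∧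
      A₀.map (QuotientGroup.mk' N) = A := by
  classical
  have hq : q.Prime := Fact.out
  obtain ⟨b, hb⟩ := IsPGroup.iff_card.1 hA
  obtain ⟨A₁, hA₁⟩ : ∃ A₁ : Subgroup G, A₁ = A.comap (QuotientGroup.mk' N) := ⟨_, rfl⟩
  have hcardA₁ : Nat.card ↥A₁ = Nat.card ↥N * Nat.card ↥A := by
    rw [hA₁]
    exact card_comap' N A
  obtain ⟨S⟩ : Nonempty (Sylow q ↥A₁) := inferInstance
  have hScard : Nat.card ↥(S : Subgroup ↥A₁) = q ^ (Nat.card ↥A₁).factorization q :=
    Sylow.card_eq_multiplicity S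
  obtain ⟨A₀, hA₀⟩ : ∃ A₀ : Subgroup G, A₀ = (S : Subgroup ↥A₁).map A₁.subtype := ⟨_, rfl⟩
  have hA₀card : Nat.card ↥A₀ = q ^ ((Nat.card ↥N * Nat.card ↥A).factorization q) := by
    rw [hA₀, Subgroup.card_map_of_injective A₁.subtype_injective, hScard, hcardA₁]
  have hA₀p : IsPGroup q ↥A₀ := IsPGroup.of_card hA₀card
  have hle : A₀ ≤ A₁ := by
    rw [hA₀]
    rintro _ ⟨s, -, rfl⟩
    exact s.2
  refine ⟨A₀, hA₀p, hA₀card, ?_⟩
  apply Subgroup.eq_of_le_of_card_ge
  · rintro _ ⟨x, hx, rfl⟩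
    have h1 : x ∈ A₁ := hle hx
    rw [hA₁] at h1
    exact h1
  · -- card of the image
    obtain ⟨f, hf⟩ : ∃ f : ↥A₀ →* G ⧸ N, f = (QuotientGroup.mk' N).comp A₀.subtype := ⟨_, rfl⟩
    have hrange : f.range = A₀.map (QuotientGroup.mk' N) := by
      rw [hf, MonoidHom.range_comp, Subgroup.range_subtype]
    have h1 : Nat.card ↥f.ker * Nat.card ↥f.range = Nat.card ↥A₀ := by
      have h2 := Subgroup.card_mul_index f.ker
      rw [Subgroup.index_ker] at h2
      exact h2
    have hkp : IsPGroup q ↥f.ker := hA₀p.to_subgroup f.ker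
    obtain ⟨a, ha⟩ := IsPGroup.iff_card.1 hkp
    have hkdvd : Nat.card ↥f.ker ∣ Nat.card ↥N := by
      have h3 : Nat.card ↥f.ker = Nat.card ↥((f.ker).map A₀.subtype) :=
        (Subgroup.card_map_of_injective A₀.subtype_injective).symm
      rw [h3]
      apply Subgroup.card_dvd_of_le
      rintro _ ⟨k, hk, rfl⟩
      have h4 : f k = 1 := hk
      rw [hf] at h4
      exact (QuotientGroup.eq_one_iff _).1 h4
    have hNpos : Nat.card ↥N ≠ 0 := Nat.card_pos.ne'
    have hApos : Nat.card ↥A ≠ 0 := Nat.card_pos.ne'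
    have hale : a ≤ (Nat.card ↥N).factorization q := by
      rw [ha] at hkdvd
      exact (hq.pow_dvd_iff_le_factorization hNpos).1 hkdvd
    have hfac : (Nat.card ↥N * Nat.card ↥A).factorization q =
        (Nat.card ↥N).factorization q + b := by
      rw [Nat.factorization_mul hNpos hApos, hb]
      simp [hq.factorization_pow]
    rw [hA₀card, hfac, ha, hrange] at h1
    -- q^a * card (image) = q^(v + b), a ≤ v
    have h5 : q ^ a * Nat.card ↥(A₀.map (QuotientGroup.mk' N)) =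
        q ^ a * q ^ ((Nat.card ↥N).factorization q + b - a) := by
      rw [h1, ← pow_add]
      congr 1
      omega
    have h6 : Nat.card ↥(A₀.map (QuotientGroup.mk' N)) =
        q ^ ((Nat.card ↥N).factorization q + b - a) :=
      Nat.eq_of_mul_eq_mul_left (pow_pos hq.pos a) h5
    rw [h6, hb]
    exact Nat.pow_le_pow_right hq.pos (by omega)

theorem main : Quot.{u} := by
  intro G _ _ hD N _ q hq A B hA hB hcard
  haveI : Fact q.Prime := ⟨hq⟩
  obtain ⟨A₀, hA₀p, hA₀c, hA₀m⟩ := lift N q A hA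
  obtain ⟨B₀, hB₀p, hB₀c, hB₀m⟩ := lift N q B hB
  have hc : Nat.card ↥A₀ = Nat.card ↥B₀ := by rw [hA₀c, hB₀c, hcard]
  obtain ⟨g, hg⟩ := hD q hq A₀ B₀ hA₀p hB₀p hc
  refine ⟨QuotientGroup.mk' N g, ?_⟩
  rw [← hB₀m, ← hA₀m, hg, Subgroup.map_map, Subgroup.map_map]
  congr 1

end Cfsg.Agent.Lib.Helper97.PDQUOT
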