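import Mathlib
import Cfsg.Agent.S5891
import Cfsg.Agent.Lib.Helper32.PglG
import Cfsg.Agent.Lib.Helper6.Pq1

/-!
# S5890 piece MS (helper97): the list of `M ⊓ L` for `M` maximal in `PGL(2,q)`, `q` odd
-/

set_option autoImplicit false

namespace Cfsg.Agent.Lib.Helper97.PglMS

open Matrix MatrixGroups Cfsg.Agent.Lib.Helper32.PglG Cfsg.Agent.Lib.Helper6.Pq1

section abstract

variable {G : Type*} [Group G]

theorem card_eq_two_mul (M L : Subgroup G) (hL : L.index = 2) (hM : IsCoatom M)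
    (hML : ¬ L ≤ M) : Nat.card M = 2 * Nat.card (M ⊓ L : Subgroup G) := by
  have : L.Normal := Subgroup.normal_of_index_eq_two hL
  have htop : M ⊔ L = ⊤ := by
    apply hM.2
    refine lt_of_le_of_ne le_sup_left ?_
    intro h
    exact hML (by rw [h]; exact le_sup_right)
  have h1 : L.relIndex M = 2 := by
    rw [← Subgroup.relIndex_sup_right, htop, Subgroup.relIndex_top_right, hL]
  have h2 := card_inf_mul_relIndex L M
  rw [h1, inf_comm] at h2
  omega

theorem sq_mem_inf (M L : Subgroup G) (hL : L.index = 2) {x : G} (hx : x ∈ M) :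
    x ^ 2 ∈ M ⊓ L := by
  rw [sq]
  exact ⟨M.mul_mem hx hx, Subgroup.mul_self_mem_of_index_two hL x⟩

/-- the dihedral case -/
theorem dih_case (M L : Subgroup G) (hL : L.index = 2) (n : ℕ) (hn : Even n)
    (e : M ≃* DihedralGroup n) :
    ∃ g ∈ M ⊓ L, 2 * orderOf g = n := by
  refine ⟨((e.symm (DihedralGroup.r 1) : M) : G) ^ 2,
    sq_mem_inf M L hL (e.symm (DihedralGroup.r 1)).2, ?_⟩
  have ho : orderOf ((e.symm (DihedralGroup.r 1) : M) : G) = n := by
    rw [Subgroup.orderOf_coe, MulEquiv.orderOf_eq, DihedralGroup.orderOf_r_one]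
  rw [orderOf_pow' _ (by norm_num), ho]
  obtain ⟨k, rfl⟩ := hn
  rcases Nat.eq_zero_or_pos k with rfl | hk
  · simp
  · have hg : Nat.gcd (k + k) 2 = 2 := by
      apply Nat.gcd_eq_right
      exact ⟨k, by ring⟩
    rw [hg]
    have : (k + k) / 2 = k := by omega
    rw [this]; ring

end abstract

theorem perm_fact : (c[(0 : Fin 4), 1, 2] : Equiv.Perm (Fin 4)) ^ 2 * c[(0 : Fin 4), 1, 3] ^ 2 ≠
    c[(0 : Fin 4), 1, 3] ^ 2 * c[(0 : Fin 4), 1, 2] ^ 2 := by decide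

theorem perm_sq1 : ((c[(0 : Fin 4), 1, 2] : Equiv.Perm (Fin 4)) ^ 2) ^ 2 = c[(0 : Fin 4), 1, 2] := by
  decide

theorem perm_sq2 : ((c[(0 : Fin 4), 1, 3] : Equiv.Perm (Fin 4)) ^ 2) ^ 2 = c[(0 : Fin 4), 1, 3] := by
  decide

theorem M_side {F : Type*} [Field F] [Fintype F] (hodd : Odd (Fintype.card F))
    (h3 : 3 < Fintype.card F) (M : Subgroup (Matrix.ProjGenLinGroup (Fin 2) F)) (hM : IsCoatom M)
    (hML : ¬ Lg F ≤ M) : MType (Fintype.card F) (M ⊓ Lg F) := by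
  have := finite_pgl (F := F)
  have hL : (Lg F).index = 2 := index_L hodd
  have hcard := card_eq_two_mul M (Lg F) hL hM hML
  obtain ⟨k, hk⟩ := hodd
  rcases Cfsg.Agent.S5891.result ⟨k, hk⟩ h3 M hM hML with h | ⟨h5, ⟨e⟩⟩ | ⟨⟨e⟩⟩ | ⟨hp, h8, ⟨e⟩⟩ |
    ⟨F₀, _, _, r, hr, hro, hq, ⟨e⟩⟩
  · left
    rw [← hcard, h]
  · right; left
    have hc : Nat.card M = 2 * (Fintype.card F - 1) := by
      rw [Nat.card_congr e.toEquiv, DihedralGroup.nat_card]
    refine ⟨h5, by omega, ?_⟩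
    exact dih_case M (Lg F) hL _ ⟨k, by omega⟩ e
  · right; right; left
    have hc : Nat.card M = 2 * (Fintype.card F + 1) := by
      rw [Nat.card_congr e.toEquiv, DihedralGroup.nat_card]
    refine ⟨by omega, ?_⟩
    exact dih_case M (Lg F) hL _ ⟨k + 1, by omega⟩ e
  · right; right; right; left
    have hc : Nat.card M = 24 := by
      rw [Nat.card_congr e.toEquiv, Nat.card_eq_fintype_card, Fintype.card_perm, Fintype.card_fin]
      rfl
    refine ⟨hp, h8, by omega, ?_⟩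
    refine ⟨((e.symm (c[(0 : Fin 4), 1, 2] ^ 2) : M) : Matrix.ProjGenLinGroup (Fin 2) F) ^ 2,
      sq_mem_inf M (Lg F) hL (e.symm _).2,
      ((e.symm (c[(0 : Fin 4), 1, 3] ^ 2) : M) : Matrix.ProjGenLinGroup (Fin 2) F) ^ 2,
      sq_mem_inf M (Lg F) hL (e.symm _).2, ?_⟩
    intro heq
    apply perm_fact
    have ha : ((e.symm (c[(0 : Fin 4), 1, 2] ^ 2) : M) : Matrix.ProjGenLinGroup (Fin 2) F) ^ 2 =
        ((e.symm c[(0 : Fin 4), 1, 2] : M) : Matrix.ProjGenLinGroup (Fin 2) F) := by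
      rw [← Subgroup.coe_pow, ← map_pow, perm_sq1]
    have hb : ((e.symm (c[(0 : Fin 4), 1, 3] ^ 2) : M) : Matrix.ProjGenLinGroup (Fin 2) F) ^ 2 =
        ((e.symm c[(0 : Fin 4), 1, 3] : M) : Matrix.ProjGenLinGroup (Fin 2) F) := by
      rw [← Subgroup.coe_pow, ← map_pow, perm_sq2]
    rw [ha, hb] at heq
    have hfin : e.symm (c[(0 : Fin 4), 1, 2] ^ 2 * c[(0 : Fin 4), 1, 3] ^ 2) =
        e.symm (c[(0 : Fin 4), 1, 3] ^ 2 * c[(0 : Fin 4), 1, 2] ^ 2) := by
      apply Subtype.ext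
      simp only [map_mul, map_pow, Subgroup.coe_mul, Subgroup.coe_pow]
      exact heq
    exact e.symm.injective hfin
  · right; right; right; right
    refine ⟨Fintype.card F₀, r, hr, hro, hq, ?_⟩
    rw [← hcard, Nat.card_congr e.toEquiv, card_pgl]

end Cfsg.Agent.Lib.Helper97.PglMS
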