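import Mathlib
import Cfsg.Agent.Lib.Helper42.ReeSpStmt
import Cfsg.Agent.Lib.Helper59.PSL2Spec

/-!
# S1159, piece EVEN: the orders of the elements of even order

An element `g` of even order `n` lies in the centralizer of the involution `g ^ (n / 2)`, which
is isomorphic to `Z₂ × PSL(2, K)`; the element orders of `PSL(2, K)` divide `3`, `(q - 1) / 2` or
`(q + 1) / 2`.
-/

set_option autoImplicit false

namespace Cfsg.Agent.Lib.Helper97.ReeSpEVEN

open Cfsg.Agent.Lib.Helper42.ReeSpStmt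

universe u v

/-- `q = 3 ^ (2 m + 1)` is `3` modulo `4` -/
theorem qq_mod_four (m : ℕ) : qq m % 4 = 3 := by
  show 3 ^ (2 * m + 1) % 4 = 3
  rw [pow_succ, pow_mul, Nat.mul_mod, Nat.pow_mod]
  norm_num

theorem main : EvenP.{u, v} := by
  intro G _ _ U H A K _ _ m hAx g hg
  have hq4 := qq_mod_four m
  obtain ⟨q, hq⟩ : ∃ q : ℕ, q = qq m := ⟨_, rfl⟩
  rw [← hq] at hq4 ⊢
  have hcardK : Fintype.card K = q := by rw [hq]; exact hAx.cardK
  have h3 : Fact (Nat.Prime 3) := ⟨Nat.prime_three⟩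
  have hchar : CharP K 3 := charP_of_card_eq_prime_pow (f := 2 * m + 1) hAx.cardK
  have hn0 : 0 < orderOf g := orderOf_pos g
  obtain ⟨n, hn⟩ : ∃ n : ℕ, orderOf g = n := ⟨_, rfl⟩
  rw [hn] at hg hn0 ⊢
  obtain ⟨k, hk⟩ := hg
  have hk0 : 0 < k := by
    rcases Nat.eq_zero_or_pos k with h | h
    · rw [h] at hk; omega
    · exact h
  -- the involution
  have hs : orderOf (g ^ k) = 2 := by
    have h1 : orderOf (g ^ k) = orderOf g / Nat.gcd (orderOf g) k := orderOf_pow g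
    rw [h1, hn, hk, Nat.gcd_mul_left_left, Nat.mul_div_cancel _ hk0]
  obtain ⟨e⟩ := hAx.invo (g ^ k) hs
  have hgc : g ∈ Subgroup.centralizer ({g ^ k} : Set G) := by
    rw [Subgroup.mem_centralizer_iff]
    intro y hy
    rw [Set.mem_singleton_iff] at hy
    rw [hy, ← pow_succ, ← pow_succ']
  have ho : orderOf (e ⟨g, hgc⟩) = n := by
    rw [MulEquiv.orderOf_eq, Subgroup.orderOf_mk, hn]
  have hprod : orderOf (e ⟨g, hgc⟩) =
      (orderOf (e ⟨g, hgc⟩).1).lcm (orderOf (e ⟨g, hgc⟩).2) := Prod.orderOf _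
  have h1 : orderOf (e ⟨g, hgc⟩).1 ∣ 2 := by
    have h := orderOf_dvd_natCard (e ⟨g, hgc⟩).1
    have hc : Nat.card (Multiplicative (ZMod 2)) = 2 := by
      rw [Nat.card_eq_fintype_card]
      rfl
    rwa [hc] at h
  have h2 := Cfsg.Agent.Lib.Helper59.PSL2Spec.orderOf_dvd 3 (e ⟨g, hgc⟩).2
  rw [hcardK] at h2
  have hg1 : Nat.gcd 2 (q - 1) = 2 := by
    have h : 2 ∣ q - 1 := by omega
    exact Nat.gcd_eq_left h
  have hg2 : Nat.gcd 2 (q + 1) = 2 := by
    have h : 2 ∣ q + 1 := by omega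
    exact Nat.gcd_eq_left h
  rw [hg1, hg2] at h2
  rw [← ho, hprod]
  rcases h2 with h | h | h
  · left
    exact Nat.lcm_dvd (h1.trans (by norm_num)) (h.trans (by norm_num))
  · right
    left
    refine Nat.lcm_dvd (h1.trans (by omega)) (h.trans ?_)
    exact Nat.div_dvd_of_dvd (by omega)
  · right
    right
    refine Nat.lcm_dvd (h1.trans ?_) h
    omega

end Cfsg.Agent.Lib.Helper97.ReeSpEVEN
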