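import Mathlib
import Cfsg.Agent.Lib.Helper23.S79Stmt
import Cfsg.Agent.Lib.Helper73.BG14Stmt

/-!
# S1379 / TLCONJ (call by helper23): `TlConj` from `SuppConj` and `CoatomConj`

Light imports (no BG closure): `of_supp : SuppConj → CoatomConj → TlConj`.
-/

set_option autoImplicit false

universe u

namespace Cfsg.Agent.Lib.Helper97.S79TlAux

open Cfsg Cfsg.Agent.Lib.Helper23.S79Stmt Cfsg.Agent.Lib.Helper23.S69Stmt
  Cfsg.Agent.Lib.Helper54.S68Stmt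

theorem of_supp (hSC : Cfsg.Agent.Lib.Helper73.BG14Stmt.SuppConj.{u}) (hCC : CoatomConj.{u}) :
    TlConj.{u} := by
  intro G _ _ hG M hM h g hg
  obtain ⟨a, ⟨ha, ha1⟩, r, hr, y, rfl⟩ := hg
  have ha1' : a ≠ 1 := fun e => ha1 (Set.mem_singleton_iff.2 e)
  have hMh : IsCoatom (M.map (MulAut.conj h).toMonoidHom) := hCC h M hM
  obtain ⟨s1, s2⟩ := hSC hG (M.map (MulAut.conj h).toMonoidHom) hMh a ha ha1' h⁻¹
  have hback : (M.map (MulAut.conj h).toMonoidHom).map (MulAut.conj h⁻¹).toMonoidHom = M := by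
    ext z
    constructor
    · rintro ⟨_, ⟨m, hm, rfl⟩, rfl⟩
      have e : (MulAut.conj h⁻¹).toMonoidHom ((MulAut.conj h).toMonoidHom m) = m := by
        show h⁻¹ * (h * m * h⁻¹) * h⁻¹⁻¹ = m
        group
      rw [e]
      exact hm
    · intro hz
      refine ⟨h * z * h⁻¹, ⟨z, hz, rfl⟩, ?_⟩
      show h⁻¹ * (h * z * h⁻¹) * h⁻¹⁻¹ = z
      group
  rw [hback] at s1 s2
  refine ⟨h⁻¹ * a * h⁻¹⁻¹, ⟨s1, ?_⟩, h⁻¹ * r * h⁻¹⁻¹, ?_, y * h, ?_⟩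
  · intro e
    apply ha1'
    have e' : h⁻¹ * a * h⁻¹⁻¹ = 1 := Set.mem_singleton_iff.1 e
    have e2 : a = h * (h⁻¹ * a * h⁻¹⁻¹) * h⁻¹ := by group
    rw [e2, e']
    group
  · rw [s2]
    exact ⟨r, hr, rfl⟩
  · group

end Cfsg.Agent.Lib.Helper97.S79TlAux
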