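import Mathlib
import Cfsg.Agent.Lib.Helper97.EPPELTE2
import Cfsg.Agent.Lib.Helper45.OmegaCenter

/-!
# A Siegel involution of rank `ρ` in `Omega^-`, characteristic 2 (generic, minus form)

`x = 1 + N`, `N` the nilpotent matrix of `Helper97.EPPELTE2` on the hyperbolic part.
Membership in `Omega` by the Dickson invariant
(`Helper45.OmegaRank.mem_omega_iff_even_rank`).
-/

set_option autoImplicit false

universe u

open scoped Matrix

namespace Cfsg.Agent.Lib.Helper97.SiegelMinusTwo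

open Cfsg.Agent.Lib.Helper94.OPStmt (P)
open Cfsg.Agent.Lib.Helper97.EPPELTE2

/-- index type of the minus form -/
abbrev J (n : ℕ) : Type := (Fin n ⊕ Fin n) ⊕ Fin 2

variable {F : Type u} [Field F]

/-- the nilpotent part, on the hyperbolic part -/
def NmM (n ρ : ℕ) (F : Type u) [Field F] : Matrix (J n) (J n) F := fun a b =>
  Sum.elim (fun a' : P n => Sum.elim (fun b' : P n => Nm n ρ F a' b') (fun _ => (0 : F)) b)
    (fun _ => 0) a

theorem NmM_inl (n ρ : ℕ) (v : J n → F) (a' : P n) :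
    (NmM n ρ F *ᵥ v) (Sum.inl a') = (Nm n ρ F *ᵥ (fun c => v (Sum.inl c))) a' := by
  simp only [Matrix.mulVec, dotProduct, NmM, Sum.elim_inl]
  rw [Fintype.sum_sum_type]
  simp

theorem NmM_inr (n ρ : ℕ) (v : J n → F) (k : Fin 2) :
    (NmM n ρ F *ᵥ v) (Sum.inr k) = 0 := by
  simp [Matrix.mulVec, dotProduct, NmM]

theorem NmM_inl_inl (n ρ : ℕ) (v : J n → F) (i : Fin n) :
    (NmM n ρ F *ᵥ v) (Sum.inl (Sum.inl i))
      = if i.val < ρ then v (Sum.inl (Sum.inr (sg n i))) else 0 := by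
  rw [NmM_inl, Nm_inl]

theorem NmM_inl_inr (n ρ : ℕ) (v : J n → F) (i : Fin n) :
    (NmM n ρ F *ᵥ v) (Sum.inl (Sum.inr i)) = 0 := by
  rw [NmM_inl, Nm_inr]

theorem NmM_sq (n ρ : ℕ) : NmM n ρ F * NmM n ρ F = 0 := by
  ext a b
  rw [Matrix.mul_apply]
  apply Finset.sum_eq_zero
  intro c _
  rcases a with (i | i) | i <;> rcases c with (j | j) | j <;> rcases b with (k | k) | k <;>
    simp [NmM, Nm]

theorem MM_sq [CharP F 2] (n ρ : ℕ) : (1 + NmM n ρ F) * (1 + NmM n ρ F) = 1 := by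
  have h2 : NmM n ρ F + NmM n ρ F = 0 := by
    ext a b
    exact CharTwo.add_self_eq_zero _
  have e : (1 + NmM n ρ F) * (1 + NmM n ρ F)
      = 1 + (NmM n ρ F + NmM n ρ F) + NmM n ρ F * NmM n ρ F := by
    noncomm_ring
  rw [e, h2, NmM_sq, add_zero, add_zero]

/-- the Siegel involution -/
def xm [CharP F 2] (n ρ : ℕ) : Matrix.GeneralLinearGroup (J n) F :=
  ⟨1 + NmM n ρ F, 1 + NmM n ρ F, MM_sq n ρ, MM_sq n ρ⟩

/-- extension by zero -/
def Em (n : ℕ) (F : Type u) [Field F] : (P n → F) →ₗ[F] (J n → F) where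
  toFun w := fun a => Sum.elim w (fun _ => 0) a
  map_add' u w := by
    funext a
    rcases a with i | i <;> simp
  map_smul' c u := by
    funext a
    rcases a with i | i <;> simp

theorem Em_inj (n : ℕ) : Function.Injective (Em n F) := by
  intro u w h
  funext k
  exact congrFun h (Sum.inl k)

theorem range_eqM (n ρ : ℕ) :
    LinearMap.range (NmM n ρ F).mulVecLin
      = (LinearMap.range (Nm n ρ F).mulVecLin).map (Em n F) := by
  apply le_antisymm
  · rintro _ ⟨v, rfl⟩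
    refine ⟨Nm n ρ F *ᵥ (fun c => v (Sum.inl c)), ⟨_, rfl⟩, ?_⟩
    funext a
    rcases a with a' | k
    · rw [Matrix.mulVecLin_apply, NmM_inl]; rfl
    · rw [Matrix.mulVecLin_apply, NmM_inr]; rfl
  · rintro _ ⟨_, ⟨w, rfl⟩, rfl⟩
    refine ⟨Em n F w, ?_⟩
    funext a
    rcases a with a' | k
    · rw [Matrix.mulVecLin_apply, NmM_inl]; rfl
    · rw [Matrix.mulVecLin_apply, NmM_inr]; rfl

theorem rank_NmM (n ρ : ℕ) (hρ : Even ρ) (hρn : ρ ≤ n) :
    Module.finrank F (LinearMap.range (NmM n ρ F).mulVecLin) = ρ := by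
  rw [range_eqM]
  have h := LinearEquiv.finrank_eq (Submodule.equivMapOfInjective (Em n F) (Em_inj n)
    (LinearMap.range (Nm n ρ F).mulVecLin))
  rw [← h]
  exact rank_Nm n ρ hρ hρn

/-- **Siegel involution of rank `ρ` in `Omega^-`, characteristic 2.** -/
theorem siegel_minus [Fintype F] [CharP F 2] (n ρ : ℕ) (a b : F)
    (hab : ∀ z₁ z₂ : F, z₁ ^ 2 + a * z₁ * z₂ + b * z₂ ^ 2 = 0 → z₁ = 0 ∧ z₂ = 0)
    (hρ : Even ρ) (h2 : 2 ≤ ρ) (hρn : ρ ≤ n) :
    ∃ x : Matrix.GeneralLinearGroup (J n) F,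
      x ∈ Cfsg.Geo.omegaGL (Cfsg.quadFormMinus n F a b) ∧
      (x : Matrix (J n) (J n) F) * (x : Matrix (J n) (J n) F) = 1 ∧
      (∀ z : F, (x : Matrix (J n) (J n) F) ≠ z • (1 : Matrix (J n) (J n) F)) ∧
      orderOf x = 2 ∧
      LinearMap.range (Matrix.toLin' (x : Matrix (J n) (J n) F) - LinearMap.id :
          (J n → F) →ₗ[F] (J n → F))
        ≤ LinearMap.ker (Matrix.toLin' (x : Matrix (J n) (J n) F) - LinearMap.id :
          (J n → F) →ₗ[F] (J n → F)) ∧
      (∀ v, Cfsg.quadFormMinus n F a b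
        ((Matrix.toLin' (x : Matrix (J n) (J n) F) - LinearMap.id :
          (J n → F) →ₗ[F] (J n → F)) v) = 0) ∧
      Module.finrank F ↥(LinearMap.range
        (Matrix.toLin' (x : Matrix (J n) (J n) F) - LinearMap.id :
          (J n → F) →ₗ[F] (J n → F))) = ρ := by
  have hx : ((xm n ρ : Matrix.GeneralLinearGroup (J n) F) : Matrix (J n) (J n) F)
      = 1 + NmM n ρ F := rfl
  have hNP : ∀ v, (Matrix.toLin' ((xm n ρ : Matrix.GeneralLinearGroup (J n) F) :
      Matrix (J n) (J n) F) - LinearMap.id : (J n → F) →ₗ[F] (J n → F)) v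
      = NmM n ρ F *ᵥ v := by
    intro v
    rw [LinearMap.sub_apply, Matrix.toLin'_apply, LinearMap.id_apply, hx, Matrix.add_mulVec,
      Matrix.one_mulVec, add_sub_cancel_left]
  have hQ : ∀ v, Cfsg.quadFormMinus n F a b ((1 + NmM n ρ F) *ᵥ v)
      = Cfsg.quadFormMinus n F a b v := by
    intro v
    unfold Cfsg.quadFormMinus
    rw [Matrix.add_mulVec, Matrix.one_mulVec]
    simp only [Pi.add_apply, NmM_inl_inl, NmM_inl_inr, NmM_inr, add_zero, add_mul,
      Finset.sum_add_distrib]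
    rw [add_left_inj, add_eq_left]
    simp only [ite_mul, zero_mul]
    rw [← Finset.sum_filter]
    apply Finset.sum_involution (fun i _ => sg n i)
    · intro i hi
      have hi' := (Finset.mem_filter.mp hi).2
      rw [sg_sg hρ hρn hi', mul_comm (v (Sum.inl (Sum.inr i)))]
      exact CharTwo.add_self_eq_zero _
    · intro i hi _
      exact sg_ne hρ hρn (Finset.mem_filter.mp hi).2
    · intro i hi
      exact Finset.mem_filter.mpr ⟨Finset.mem_univ _, sg_lt hρ hρn (Finset.mem_filter.mp hi).2⟩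
    · intro i hi
      exact sg_sg hρ hρn (Finset.mem_filter.mp hi).2
  have hmem : (xm n ρ : Matrix.GeneralLinearGroup (J n) F)
      ∈ Cfsg.isometryGroup F (Cfsg.quadFormMinus n F a b) := fun u _ => hQ u
  have hS := Cfsg.Agent.Lib.Helper45.OmegaCenter.sep_minusQ' (F := F) n a b hab
  have hG : Cfsg.Agent.Lib.Helper44.CD2a.Good (Cfsg.Agent.Lib.Helper44.NegPairs.minusQ n F a b) :=
    Cfsg.Agent.Lib.Helper44.OMat2.good_of_card' hS (Or.inr (by
      rw [Fintype.card_sum, Fintype.card_sum, Fintype.card_fin, Fintype.card_fin]; omega))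
  have hOm : (xm n ρ : Matrix.GeneralLinearGroup (J n) F)
      ∈ Cfsg.Geo.omegaGL (Cfsg.quadFormMinus n F a b) := by
    have h1 := (Cfsg.Agent.Lib.Helper44.Der3.mem_omegaGL_iff
      (Cfsg.Agent.Lib.Helper44.NegPairs.minusQ n F a b) (xm n ρ)).mpr
      ⟨⟨xm n ρ, hmem⟩, (Cfsg.Agent.Lib.Helper45.OmegaRank.mem_omega_iff_even_rank _ hS hG _).mpr
        (by
          show Even ((1 + NmM n ρ F) - 1).rank
          rw [add_sub_cancel_left]
          have h3 : (NmM n ρ F).rank = ρ := rank_NmM n ρ hρ hρn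
          rw [h3]
          exact hρ), rfl⟩
    exact h1
  have hns : ∀ z : F, ((xm n ρ : Matrix.GeneralLinearGroup (J n) F) : Matrix (J n) (J n) F)
      ≠ z • (1 : Matrix (J n) (J n) F) := by
    intro z hz
    have h1 := congrFun (congrFun hz (Sum.inl (Sum.inl ⟨0, by omega⟩)))
      (Sum.inl (Sum.inr (sg n ⟨0, by omega⟩)))
    rw [hx] at h1
    simp [NmM, Nm] at h1
    omega
  refine ⟨xm n ρ, hOm, MM_sq n ρ, hns, ?_, ?_, ?_, ?_⟩
  · haveI : Fact (Nat.Prime 2) := ⟨Nat.prime_two⟩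
    apply orderOf_eq_prime
    · apply Units.ext
      rw [Units.val_pow_eq_pow_val, pow_two]
      exact MM_sq n ρ
    · intro h1
      apply hns 1
      rw [h1, one_smul]
      rfl
  · rintro _ ⟨v, rfl⟩
    rw [LinearMap.mem_ker, hNP, hNP, Matrix.mulVec_mulVec, NmM_sq, Matrix.zero_mulVec]
  · intro v
    rw [hNP]
    unfold Cfsg.quadFormMinus
    simp only [NmM_inl_inr, NmM_inr, mul_zero, Finset.sum_const_zero]
    ring
  · have h1 : (Matrix.toLin' ((xm n ρ : Matrix.GeneralLinearGroup (J n) F) :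
        Matrix (J n) (J n) F) - LinearMap.id : (J n → F) →ₗ[F] (J n → F))
        = (NmM n ρ F).mulVecLin :=
      LinearMap.ext (fun v => by rw [hNP]; rfl)
    rw [h1]
    exact rank_NmM n ρ hρ hρn

end Cfsg.Agent.Lib.Helper97.SiegelMinusTwo
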