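import Mathlib
import Cfsg.Agent.Lib.Helper26.T64Stmt

/-!
# S3157, piece CXNAB: the fixed points of `x` do not commute pairwise
-/

set_option autoImplicit false

namespace Cfsg.Agent.Lib.Helper97.T64CXNAB

open Cfsg.Agent.Lib.Helper26.T64Stmt

universe u

theorem main : Cfsg.Agent.Lib.Helper26.T64Stmt.CXNAB.{u} := by
  intro T _ _ ρ x hT hZ hXZ hXF hCI
  obtain ⟨z₀, w, hz₀, hw, hz₀1, hxz₀, hxw, huniq⟩ := hXZ
  by_contra hnab
  have hab : ∀ c₁ c₂ : T, x c₁ = c₁ → x c₂ = c₂ → c₁ * c₂ = c₂ * c₁ := by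
    intro c₁ c₂ h1 h2
    by_contra hne
    exact hnab ⟨c₁, c₂, h1, h2, hne⟩
  have hcen : ∀ c : T, x c = c → c ∈ Subgroup.center T := by
    intro c hc
    rw [Subgroup.mem_center_iff]
    intro t
    obtain ⟨c', c'', hc', hc'', rfl⟩ := hXF t
    have h1 : c * c' = c' * c := hab c c' hc hc'
    have h2 : c * ρ c'' = ρ c'' * c := by
      have h := hCI c c''
      rw [hab c c'' hc hc''] at h
      have h3 : c'' * c * c⁻¹ * c''⁻¹ = 1 := by group
      rw [h3, map_one, map_one] at h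
      have h4 : c * ρ c'' * c⁻¹ = ρ c'' := mul_inv_eq_one.mp h
      exact mul_inv_eq_iff_eq_mul.mp h4
    calc c' * ρ c'' * c = c' * (ρ c'' * c) := by rw [mul_assoc]
      _ = c' * (c * ρ c'') := by rw [h2]
      _ = (c' * c) * ρ c'' := by rw [mul_assoc]
      _ = (c * c') * ρ c'' := by rw [h1]
      _ = c * (c' * ρ c'') := by rw [mul_assoc]
  have hfix : ∀ c : T, x c = c → c = 1 ∨ c = z₀ := fun c hc => huniq c (hcen c hc) hc
  let f : Bool × Bool → T := fun p =>
    (if p.1 then z₀ else 1) * ρ (if p.2 then z₀ else 1)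
  have hsurj : Function.Surjective f := by
    intro t
    obtain ⟨c, c', hc, hc', rfl⟩ := hXF t
    rcases hfix c hc with rfl | rfl <;> rcases hfix c' hc' with rfl | rfl
    · exact ⟨(false, false), by simp [f]⟩
    · exact ⟨(false, true), by simp [f]⟩
    · exact ⟨(true, false), by simp [f]⟩
    · exact ⟨(true, true), by simp [f]⟩
  have hle : Nat.card T ≤ Nat.card (Bool × Bool) := Nat.card_le_card_of_surjective f hsurj
  have h4 : Nat.card (Bool × Bool) = 4 := by
    rw [Nat.card_eq_fintype_card]; rfl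
  omega

end Cfsg.Agent.Lib.Helper97.T64CXNAB
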