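import Mathlib
import Cfsg.Agent.Lib.Helper39.TLStmt

/-!
# S4404 / CONJ (call by helper39): conjugates of reflections are reflections
-/

set_option autoImplicit false

universe u

namespace Cfsg.Agent.Lib.Helper97.TLCONJ

open Cfsg Cfsg.Agent.Lib.Helper39.TLStmt

theorem main : Conj.{u} := by
  intro S _ M _ y W g h
  refine ⟨?_, ?_, ?_, ?_, ?_⟩
  · -- cube
    have h3 : (g * y * g⁻¹) ^ 3 = g * y ^ 3 * g⁻¹ := by
      rw [pow_succ, pow_succ, pow_one, pow_succ, pow_succ, pow_one]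
      group
    rw [h3, Subgroup.mem_centralizer_iff]
    intro m hm
    have hm' : g⁻¹ * m * g ∈ M := by
      have := ‹M.Normal›.conj_mem m hm g⁻¹
      rwa [inv_inv] at this
    have hc := (Subgroup.mem_centralizer_iff.1 h.cube) (g⁻¹ * m * g) hm'
    calc m * (g * y ^ 3 * g⁻¹) = g * ((g⁻¹ * m * g) * y ^ 3) * g⁻¹ := by group
      _ = g * (y ^ 3 * (g⁻¹ * m * g)) * g⁻¹ := by rw [hc]
      _ = g * y ^ 3 * g⁻¹ * m := by group
  · -- le
    rintro _ ⟨w, hw, rfl⟩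
    exact ‹M.Normal›.conj_mem w (h.le hw) g
  · -- card
    rw [Subgroup.card_map_of_injective (MulAut.conj g).injective]
    exact h.card
  · -- comm
    intro m hm
    have hm' : g⁻¹ * m * g ∈ M := by
      have := ‹M.Normal›.conj_mem m hm g⁻¹
      rwa [inv_inv] at this
    refine ⟨y * (g⁻¹ * m * g) * y⁻¹ * (g⁻¹ * m * g)⁻¹, h.comm _ hm', ?_⟩
    show g * (y * (g⁻¹ * m * g) * y⁻¹ * (g⁻¹ * m * g)⁻¹) * g⁻¹ = _
    group
  · -- fix
    rintro _ ⟨w, hw, rfl⟩ hfix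
    have hfix' : g * y * g⁻¹ * (g * w * g⁻¹) * (g * y * g⁻¹)⁻¹ = g * w * g⁻¹ := hfix
    have h1 : y * w * y⁻¹ = w := by
      have : g⁻¹ * (g * y * g⁻¹ * (g * w * g⁻¹) * (g * y * g⁻¹)⁻¹) * g = g⁻¹ * (g * w * g⁻¹) * g := by
        rw [hfix']
      have e1 : g⁻¹ * (g * y * g⁻¹ * (g * w * g⁻¹) * (g * y * g⁻¹)⁻¹) * g = y * w * y⁻¹ := by group
      have e2 : g⁻¹ * (g * w * g⁻¹) * g = w := by group
      rw [e1, e2] at this
      exact this
    have hw1 := h.fix w hw h1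
    rw [hw1]
    exact map_one _

end Cfsg.Agent.Lib.Helper97.TLCONJ
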