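import Mathlib
import Cfsg.Agent.Lib.Helper44.QSpace

/-!
# Totally singular subspaces of arbitrary quadratic forms over finite fields of odd characteristic

* `exists_sing_sub` : a subspace of finrank `≥ 3` contains a nonzero singular vector
  (the form may be degenerate);
* `ts_ext` : a totally singular `U` with `2 finrank U + 3 ≤ finrank V` is not maximal;
* `ts_big` : every subspace `A` contains a totally singular `U` with `finrank A ≤ 2 finrank U + 2`.
-/

set_option autoImplicit false

namespace Cfsg.Agent.Lib.Helper97.TsExtGen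

open Cfsg.Agent.Lib.Helper44.QSpace
open QuadraticMap Module

variable {F : Type*} [Field F] [Finite F] {V : Type*} [AddCommGroup V] [Module F V]
  [FiniteDimensional F V]

theorem exists_sing_sub (h2 : (2 : F) ≠ 0) (Q : QuadraticForm F V) (C : Submodule F V)
    (hC : 3 ≤ finrank F ↥C) : ∃ v ∈ C, v ≠ 0 ∧ Q v = 0 := by
  classical
  by_cases h : Cfsg.Agent.Lib.Helper44.QSpace.Sep (Q.comp C.subtype)
  · obtain ⟨e, he, hQe⟩ := exists_singular h hC
    refine ⟨(e : V), e.2, ?_, hQe⟩
    intro h0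
    exact he (Subtype.ext h0)
  · unfold Cfsg.Agent.Lib.Helper44.QSpace.Sep at h
    push Not at h
    obtain ⟨x, hx, hx0⟩ := h
    refine ⟨(x : V), x.2, ?_, ?_⟩
    · intro h0
      exact hx0 (Subtype.ext h0)
    · have h1 := hx x
      rw [QuadraticMap.polar_self] at h1
      have h3 : (2 : F) * (Q.comp C.subtype) x = 0 := by
        rw [← h1]
        simp [two_mul, two_smul]
      rcases mul_eq_zero.mp h3 with h4 | h4
      · exact absurd h4 h2
      · exact h4

/-- the complement of `U` inside `P`. -/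
theorem exists_compl_in (U P : Submodule F V) (hUP : U ≤ P) :
    ∃ C : Submodule F V, C ≤ P ∧ U ⊓ C = ⊥ ∧ finrank F ↥U + finrank F ↥C = finrank F ↥P := by
  obtain ⟨D, hD⟩ := Submodule.exists_isCompl U
  refine ⟨D ⊓ P, inf_le_right, ?_, ?_⟩
  · rw [eq_bot_iff, ← hD.inf_eq_bot]
    exact inf_le_inf_left U inf_le_left
  · have h1 : U ⊔ D ⊓ P = P := by
      rw [← sup_inf_assoc_of_le D hUP, hD.sup_eq_top, top_inf_eq]
    have h3 : U ⊓ (D ⊓ P) = ⊥ := by
      rw [eq_bot_iff, ← hD.inf_eq_bot]
      exact inf_le_inf_left U inf_le_left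
    have h := Submodule.finrank_sup_add_finrank_inf_eq U (D ⊓ P)
    rw [h1, h3, finrank_bot, add_zero] at h
    exact h.symm

theorem mem_orth (Q : QuadraticForm F V) (U : Submodule F V) (v : V) :
    v ∈ LinearMap.BilinForm.orthogonal (polarBilin Q) U ↔ ∀ u ∈ U, polar Q u v = 0 :=
  Iff.rfl

theorem ts_le_orth (Q : QuadraticForm F V) (U : Submodule F V) (hU : ∀ u ∈ U, Q u = 0) :
    U ≤ LinearMap.BilinForm.orthogonal (polarBilin Q) U := by
  intro v hv
  rw [mem_orth]
  intro u hu
  unfold polar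
  rw [hU _ (U.add_mem hu hv), hU u hu, hU v hv]
  simp

theorem ts_ext (h2 : (2 : F) ≠ 0) (Q : QuadraticForm F V) (U : Submodule F V)
    (hU : ∀ u ∈ U, Q u = 0) (hdim : 2 * finrank F ↥U + 3 ≤ finrank F V) :
    ∃ v, v ∉ U ∧ Q v = 0 ∧ ∀ u ∈ U, polar Q u v = 0 := by
  classical
  obtain ⟨C, hCP, hUC, hdimC⟩ := exists_compl_in U
    (LinearMap.BilinForm.orthogonal (polarBilin Q) U) (ts_le_orth Q U hU)
  have h1 := LinearMap.BilinForm.finrank_add_finrank_orthogonal' (B := polarBilin Q) U
  have hC3 : 3 ≤ finrank F ↥C := by omega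
  obtain ⟨v, hvC, hv0, hQv⟩ := exists_sing_sub h2 Q C hC3
  refine ⟨v, ?_, hQv, ?_⟩
  · intro hvU
    have : v ∈ U ⊓ C := ⟨hvU, hvC⟩
    rw [hUC] at this
    exact hv0 ((Submodule.mem_bot F).mp this)
  · exact (mem_orth Q U v).1 (hCP hvC)

theorem ts_sup (Q : QuadraticForm F V) (U : Submodule F V) (hU : ∀ u ∈ U, Q u = 0) (v : V)
    (hQv : Q v = 0) (hUv : ∀ u ∈ U, polar Q u v = 0) :
    ∀ w ∈ U ⊔ Submodule.span F {v}, Q w = 0 := by
  intro w hw
  obtain ⟨u, hu, y, hy, rfl⟩ := Submodule.mem_sup.1 hw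
  obtain ⟨c, rfl⟩ := Submodule.mem_span_singleton.1 hy
  rw [QuadraticMap.map_add Q u (c • v), QuadraticMap.map_smul, polar_smul_right, hU u hu, hQv,
    hUv u hu]
  simp

theorem ts_big (h2 : (2 : F) ≠ 0) (Q : QuadraticForm F V) (A : Submodule F V) :
    ∃ U : Submodule F V, U ≤ A ∧ (∀ u ∈ U, Q u = 0) ∧ finrank F ↥A ≤ 2 * finrank F ↥U + 2 := by
  classical
  have key : ∀ k : ℕ, ∀ U : Submodule F V, U ≤ A → (∀ u ∈ U, Q u = 0) →
      finrank F ↥A - finrank F ↥U = k →
      ∃ U' : Submodule F V, U' ≤ A ∧ (∀ u ∈ U', Q u = 0) ∧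
        finrank F ↥A ≤ 2 * finrank F ↥U' + 2 := by
    intro k
    induction k using Nat.strong_induction_on with
    | _ k ih =>
      intro U hUA hU hk
      by_cases hdone : finrank F ↥A ≤ 2 * finrank F ↥U + 2
      · exact ⟨U, hUA, hU, hdone⟩
      · have hUP : U ≤ A ⊓ LinearMap.BilinForm.orthogonal (polarBilin Q) U :=
          le_inf hUA (ts_le_orth Q U hU)
        obtain ⟨C, hCP, hUC, hdimC⟩ := exists_compl_in U _ hUP
        have h1 := LinearMap.BilinForm.finrank_add_finrank_orthogonal' (B := polarBilin Q) U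
        have h3 := Submodule.finrank_sup_add_finrank_inf_eq A
          (LinearMap.BilinForm.orthogonal (polarBilin Q) U)
        have h4 : finrank F ↥(A ⊔ LinearMap.BilinForm.orthogonal (polarBilin Q) U) ≤
            finrank F V := Submodule.finrank_le _
        have hC3 : 3 ≤ finrank F ↥C := by omega
        obtain ⟨v, hvC, hv0, hQv⟩ := exists_sing_sub h2 Q C hC3
        have hvU : v ∉ U := by
          intro hvU
          have : v ∈ U ⊓ C := ⟨hvU, hvC⟩
          rw [hUC] at this
          exact hv0 ((Submodule.mem_bot F).mp this)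
        have hvP := hCP hvC
        have hvA : v ∈ A := (Submodule.mem_inf.1 hvP).1
        have hvO : ∀ u ∈ U, polar Q u v = 0 := (mem_orth Q U v).1 (Submodule.mem_inf.1 hvP).2
        have hlt : U < U ⊔ Submodule.span F {v} := by
          refine lt_of_le_of_ne le_sup_left ?_
          intro heq
          apply hvU
          rw [heq]
          exact Submodule.mem_sup_right (Submodule.mem_span_singleton_self v)
        have hfl := Submodule.finrank_lt_finrank_of_lt hlt
        have hle : U ⊔ Submodule.span F {v} ≤ A :=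
          sup_le hUA ((Submodule.span_singleton_le_iff_mem v A).2 hvA)
        have hfle := Submodule.finrank_mono hle
        exact ih (finrank F ↥A - finrank F ↥(U ⊔ Submodule.span F {v})) (by omega)
          (U ⊔ Submodule.span F {v}) hle (ts_sup Q U hU v hQv hvO) rfl
  exact key _ ⊥ bot_le (by
    intro u hu
    rw [(Submodule.mem_bot F).mp hu]
    exact QuadraticMap.map_zero Q) rfl

end Cfsg.Agent.Lib.Helper97.TsExtGen
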