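import Mathlib
import Cfsg.Agent.Lib.Helper41.TMTwoStmt
import Cfsg.Agent.Lib.Helper44.NegPairs
import Cfsg.Agent.Lib.Helper44.FinSq
import Cfsg.Agent.Lib.Helper97.TsExtGen

/-!
# S5987 / TM2TSEXT (sub-call by helper41; helper97, second seat)
-/

set_option autoImplicit false

universe u

open scoped Matrix

namespace Cfsg.Agent.Lib.Helper97.TM2TSEXT

open Cfsg.Agent.Lib.Helper41.TMTwoStmt
open Cfsg.Agent.Lib.Helper45.OMiStmt (M Aniso FxM NDegM StabM TopNDM)
open Cfsg.Agent.Lib.Helper44.NegPairs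

theorem main : TsExt.{u} := by
  intro F _ _ hodd d a b U hU hdim
  classical
  have h2 : (2 : F) ≠ 0 := Cfsg.Agent.Lib.Helper44.FinSq.two_ne_zero_of_odd_card hodd
  have hV : Module.finrank F (M d → F) = 2 * d := by
    rw [Module.finrank_pi]
    simp
    omega
  have hdim' : 2 * Module.finrank F ↥U + 3 ≤ Module.finrank F (M d → F) := by
    rw [hV]
    omega
  obtain ⟨v, hv, hQ, hp⟩ := Cfsg.Agent.Lib.Helper97.TsExtGen.ts_ext h2 (minusQ (d - 1) F a b) U hU
    hdim'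
  exact ⟨v, hv, hQ, hp⟩

end Cfsg.Agent.Lib.Helper97.TM2TSEXT
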