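import Mathlib
import Cfsg.Agent.Lib.Helper74.WinStmt

/-!
# S4467, piece PRIMB
-/

set_option autoImplicit false

namespace Cfsg.Agent.Lib.Helper97.WinPRIMB

open Cfsg.Agent.Lib.Helper74.WinStmt

universe u

/-- orbit count for the `p`-group generated by `x` acting on a normal subgroup by conjugation -/
theorem orb {G : Type u} [Group G] [Finite G] (p : ℕ) [Fact p.Prime] (U : Subgroup G) [U.Normal]
    (x : G) (hx : IsPGroup p ↥(Subgroup.zpowers x)) :
    Nat.card ↥U ≡ Nat.card ↥(U ⊓ Subgroup.centralizer {x} : Subgroup G) [MOD p] := by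
  letI : MulAction ↥(Subgroup.zpowers x) ↥U :=
    MulAction.compHom ↥U ((MulAut.conjNormal (H := U)).comp (Subgroup.zpowers x).subtype)
  have hsmul : ∀ (s : ↥(Subgroup.zpowers x)) (u : ↥U),
      ((s • u : ↥U) : G) = (s : G) * u * (s : G)⁻¹ := by
    intro s u
    rfl
  have h := hx.card_modEq_card_fixedPoints ↥U
  have hcard : Nat.card (MulAction.fixedPoints ↥(Subgroup.zpowers x) ↥U) =
      Nat.card ↥(U ⊓ Subgroup.centralizer {x} : Subgroup G) := by
    apply Nat.card_congr
    exact
      { toFun := fun u => ⟨u.1.1, Subgroup.mem_inf.mpr ⟨u.1.2, by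
            rw [Subgroup.mem_centralizer_iff]
            intro t ht
            rw [Set.mem_singleton_iff] at ht
            rw [ht]
            have h1 := congrArg Subtype.val (u.2 ⟨x, Subgroup.mem_zpowers x⟩)
            rw [hsmul] at h1
            calc x * u.1.1 = x * u.1.1 * x⁻¹ * x := by group
              _ = u.1.1 * x := by rw [h1]⟩⟩
        invFun := fun u => ⟨⟨u.1, (Subgroup.mem_inf.mp u.2).1⟩, by
            intro s
            apply Subtype.ext
            rw [hsmul]
            have hxu : x * (u.1 : G) = u.1 * x :=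
              Subgroup.mem_centralizer_iff.mp (Subgroup.mem_inf.mp u.2).2 x rfl
            have hc : x ∈ Subgroup.centralizer {(u.1 : G)} := by
              rw [Subgroup.mem_centralizer_iff]
              intro t ht
              rw [Set.mem_singleton_iff] at ht
              rw [ht]
              exact hxu.symm
            have hs : (s : G) ∈ Subgroup.centralizer {(u.1 : G)} :=
              (Subgroup.zpowers_le.mpr hc) s.2
            have hsu : (u.1 : G) * (s : G) = s * u.1 := Subgroup.mem_centralizer_iff.mp hs u.1 rfl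
            show (s : G) * (u.1 : G) * (s : G)⁻¹ = u.1
            rw [← hsu]
            group⟩
        left_inv := fun u => rfl
        right_inv := fun u => rfl }
  rw [hcard] at h
  exact h

theorem main : Cfsg.Agent.Lib.Helper74.WinStmt.PrimB.{u} := by
  intro G _ _ p hp K V q k hq hKn hVn hKV hrel hcent y hy hyK
  haveI : Fact p.Prime := ⟨hp⟩
  -- k ≥ 1
  have hk : k ≠ 0 := by
    intro hk0
    rw [hk0, pow_zero] at hrel
    have hVK : V ≤ K := Subgroup.relIndex_eq_one.mp hrel
    apply hyK
    apply hVK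
    apply hcent
    intro v hv
    exact K.mul_mem (hKn.conj_mem v (hVK hv) y) (K.inv_mem (hVK hv))
  by_cases hqp : q = p
  · refine ⟨q ^ k, hq.isPrimePow.pow hk, dvd_rfl, Or.inl ?_⟩
    rw [Int.modEq_zero_iff_dvd, hqp]
    exact_mod_cast dvd_pow_self p hk
  -- q ≠ p
  have hcop : Nat.Coprime p q := (Nat.coprime_primes hp hq).mpr (fun h => hqp h.symm)
  obtain ⟨π, hπ⟩ : ∃ π : G →* G ⧸ K, π = QuotientGroup.mk' K := ⟨_, rfl⟩
  have hπker : π.ker = K := by rw [hπ, QuotientGroup.ker_mk']
  have hπsurj : Function.Surjective π := by rw [hπ]; exact QuotientGroup.mk'_surjective K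
  haveI hVbn : (V.map π).Normal := hVn.map π hπsurj
  have hVbcard : Nat.card ↥(V.map π) = q ^ k := by
    have h1 := Subgroup.relIndex_ker (K := V) π
    rw [hπker] at h1
    rw [← h1, hrel]
  have hyb : IsPGroup p ↥(Subgroup.zpowers (π y)) := by
    rw [← MonoidHom.map_zpowers]
    exact hy.map π
  have hyb1 : π y ≠ 1 := by
    intro h
    apply hyK
    rw [← hπker]
    exact MonoidHom.mem_ker.mpr h
  -- y ∉ V
  have hyV : y ∉ V := by
    intro hyV
    apply hyb1
    have h1 : orderOf (π y) ∣ q ^ k := by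
      rw [← hVbcard]
      exact Subgroup.orderOf_dvd_natCard _ (Subgroup.mem_map_of_mem π hyV)
    obtain ⟨n, hn⟩ := hyb ⟨π y, Subgroup.mem_zpowers _⟩
    have h2 : orderOf (π y) ∣ p ^ n := by
      apply orderOf_dvd_of_pow_eq_one
      have := congrArg Subtype.val hn
      simpa using this
    have h3 : orderOf (π y) ∣ Nat.gcd (p ^ n) (q ^ k) := Nat.dvd_gcd h2 h1
    have h4 : Nat.gcd (p ^ n) (q ^ k) = 1 := Nat.Coprime.pow n k hcop
    rw [h4, Nat.dvd_one] at h3
    exact orderOf_eq_one_iff.mp h3
  have hmod := orb p (V.map π) (π y) hyb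
  rw [hVbcard] at hmod
  obtain ⟨F, hF⟩ : ∃ F : Subgroup (G ⧸ K), F = V.map π ⊓ Subgroup.centralizer {π y} := ⟨_, rfl⟩
  rw [← hF] at hmod
  have hFle : F ≤ V.map π := by rw [hF]; exact inf_le_left
  have hFdvd : Nat.card ↥F ∣ q ^ k := by
    rw [← hVbcard]
    exact Subgroup.card_dvd_of_le hFle
  obtain ⟨c, hck, hc⟩ := (Nat.dvd_prime_pow hq).mp hFdvd
  have hclt : c < k := by
    rcases Nat.lt_or_ge c k with h | h
    · exact h
    · exfalso
      have hck' : c = k := le_antisymm hck h
      have hFeq : F = V.map π := by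
        apply Subgroup.eq_of_le_of_card_ge hFle
        rw [hVbcard, hc, hck']
      apply hyV
      apply hcent
      intro v hv
      have hvF : π v ∈ F := by
        rw [hFeq]
        exact Subgroup.mem_map_of_mem π hv
      rw [hF] at hvF
      have hcomm : π y * π v = π v * π y := Subgroup.mem_centralizer_iff.mp hvF.2 (π y) rfl
      rw [← hπker, MonoidHom.mem_ker, map_mul, map_mul, map_mul, map_inv, map_inv, hcomm]
      group
  rw [hc] at hmod
  have hsplit : q ^ k = q ^ c * q ^ (k - c) := by
    rw [← pow_add]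
    congr 1
    omega
  have hmod2 : q ^ c * q ^ (k - c) ≡ q ^ c * 1 [MOD p] := by
    rw [← hsplit, mul_one]
    exact hmod
  have hcop2 : Nat.gcd p (q ^ c) = 1 := Nat.Coprime.pow_right c hcop
  have hmod3 : q ^ (k - c) ≡ 1 [MOD p] := Nat.ModEq.cancel_left_of_coprime hcop2 hmod2
  refine ⟨q ^ (k - c), hq.isPrimePow.pow (by omega), pow_dvd_pow q (Nat.sub_le k c), Or.inr ?_⟩
  exact_mod_cast (Int.natCast_modEq_iff.mpr hmod3)

end Cfsg.Agent.Lib.Helper97.WinPRIMB
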